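import Cfsg.Agent.Lib.Phan.AutTwo

/-!
The field with nine elements and the group `SU 2` over it.
-/

set_option autoImplicit false

namespace CfsgLib.Phan.Three

open Matrix CfsgLib.Classical CfsgLib.Classical.Unitary CfsgLib.Pres.SU CfsgLib.Pres.SU.Chain

variable {F : Type*} [Field F] {σ : F →+* F}

/-- The facts about the field that are used. -/
structure Nine (σ : F →+* F) (i : F) : Prop where
  three : (3 : F) = 0
  sq : i * i = -1
  conj : σ i = -i

variable {i : F}

theorem Nine.ne_zero (N : Nine σ i) : i ≠ 0 := fun e => by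
  have := N.sq; rw [e, mul_zero] at this; exact one_ne_zero (neg_eq_zero.1 this.symm)

theorem Nine.two_ne (N : Nine σ i) : (2 : F) ≠ 0 := fun e => by
  exact one_ne_zero (show (1 : F) = 0 by linear_combination N.three - e)

theorem Nine.one_eq (N : Nine σ i) : (4 : F) = 1 := by linear_combination N.three

theorem exists_nine [Finite F] (hF : Nat.card F = 3 ^ 2) (h : UFrob σ 3) : ∃ i, Nine σ i := by
  obtain ⟨x, hx, hx1⟩ := exists_normOne_sq_ne_one hF
  have h4 : (x ^ 2 - 1) * (x ^ 2 + 1) = 0 := by linear_combination hx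
  have hx2 : x ^ 2 + 1 = 0 := (mul_eq_zero.1 h4).resolve_left (sub_ne_zero.2 hx1)
  refine ⟨x, ?_, by linear_combination hx2, ?_⟩
  · have := Fintype.ofFinite F
    have h9 : ((Fintype.card F : ℕ) : F) = 0 := Nat.cast_card_eq_zero F
    rw [← Nat.card_eq_fintype_card, hF] at h9
    have : (3 : F) * 3 = 0 := by exact_mod_cast h9
    exact mul_self_eq_zero.1 this
  · rw [h.pow]; linear_combination x * hx2

theorem cube_eq_one (N : Nine σ i) {x : F} (hx : x ^ 3 = 1) : x = 1 := by
  have : (x - 1) ^ 3 = 0 := by linear_combination hx + (-x ^ 2 + x) * N.three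
  exact sub_eq_zero.1 ((pow_eq_zero_iff (by norm_num)).1 this)

theorem pow_four [Finite F] (hF : Nat.card F = 3 ^ 2) {x : F} (hx : x ^ 4 = 1) (N : Nine σ i) :
    ∃ y, y * y = x := by
  have : Nat.card F = 3 ^ 2 := hF
  rcases mul_eq_zero.1 (show (x ^ 2 - 1) * (x ^ 2 + 1) = 0 by linear_combination hx) with e | e
  · rcases mul_eq_zero.1 (show (x - 1) * (x + 1) = 0 by linear_combination e) with e' | e'
    · exact ⟨1, by linear_combination -e'⟩
    · exact ⟨i, by linear_combination N.sq - e'⟩
  · rcases mul_eq_zero.1 (show (x - i) * (x + i) = 0 by linear_combination e - N.sq) with e' | e'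
    · exact ⟨1 - i, by linear_combination -e' + N.sq - i * N.three⟩
    · exact ⟨1 + i, by linear_combination -e' + N.sq + i * N.three⟩

/-- Matrices of the shape of `SU 2`. -/
def mk (σ : F →+* F) (a b : F) : Matrix (Fin 2) (Fin 2) F := !![a, -σ b; b, σ a]

theorem mk_mul (hinv : ∀ x, σ (σ x) = x) (a b c d : F) :
    mk σ a b * mk σ c d = mk σ (a * c - σ b * d) (b * c + σ a * d) := by
  ext r s
  fin_cases r <;> fin_cases s <;>
    simp [mk, Matrix.mul_apply, Fin.sum_univ_two, map_sub, map_add, map_mul, hinv] <;> ring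

theorem mk_inj {a b c d : F} (e : mk σ a b = mk σ c d) : a = c ∧ b = d :=
  ⟨by simpa [mk] using congrFun (congrFun e 0) 0, by simpa [mk] using congrFun (congrFun e 1) 0⟩

theorem norm_split [Finite F] (hF : Nat.card F = 3 ^ 2) (h : UFrob σ 3) (N : Nine σ i) (x : F) :
    x = 0 ∨ x * σ x = 1 ∨ x * σ x = -1 := by
  by_cases hx : x = 0
  · exact Or.inl hx
  refine Or.inr ?_
  have := Fintype.ofFinite F
  have h8 : x ^ 8 = 1 := by
    have := FiniteField.pow_card_sub_one_eq_one x hx
    rwa [← Nat.card_eq_fintype_card, hF] at this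
  have hn : x * σ x = x ^ 4 := by rw [h.pow]; ring
  rcases mul_eq_zero.1 (show (x ^ 4 - 1) * (x ^ 4 + 1) = 0 by linear_combination h8) with e | e
  · exact Or.inl (by linear_combination hn + e)
  · exact Or.inr (by linear_combination hn + e)

variable {h : UFrob σ 3}

/-- An element of `SU 2` in this shape. -/
theorem su2_mk (h : UFrob σ 3) (M : Cfsg.SU 2 F 3) : M.1.1 = mk σ (M.1.1 0 0) (M.1.1 1 0) := by
  obtain ⟨a, b⟩ := su2_entries h M
  ext r s
  fin_cases r <;> fin_cases s
  · rfl
  · exact b
  · rfl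
  · exact a

theorem exists_mk (h : UFrob σ 3) {a b : F} (hab : a * σ a + b * σ b = 1) :
    ∃ M : Cfsg.SU 2 F 3, M.1.1 = mk σ a b := exists_su_two h hab

/-- Two elements of order three generate. -/
theorem top_of_two [Finite F] (hF : Nat.card F = 3 ^ 2) (h : UFrob σ 3) (N : Nine σ i)
    {S T : Cfsg.SU 2 F 3} (hS : S.1.1 = mk σ (1 + i) (1 + i))
    (hT : T.1.1 = mk σ (1 + i) (i * (1 + i))) (H : Subgroup (Cfsg.SU 2 F 3)) (hSH : S ∈ H)
    (hTH : T ∈ H) : H = ⊤ := by
  have inv := h.invol
  have i2 := N.sq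
  have t3 := N.three
  have mem : ∀ {a b : F} {g : Cfsg.SU 2 F 3}, g ∈ H → g.1.1 = mk σ a b →
      ∀ x : Cfsg.SU 2 F 3, x.1.1 = mk σ a b → x ∈ H := fun hg e x hx => by
    rwa [show x = _ from Subtype.ext (Subtype.ext (hx.trans e.symm))]
  -- the product is monomial
  have hA : (S * T).1.1 = mk σ 0 i := by
    show S.1.1 * T.1.1 = _
    rw [hS, hT, mk_mul inv]
    congr 1
    · rw [map_add, map_one, N.conj]; grobner
    · rw [map_add, map_one, N.conj]; grobner
  obtain ⟨Si, hSi⟩ : ∃ Si : Cfsg.SU 2 F 3, Si = S⁻¹ := ⟨_, rfl⟩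
  have hSi' : Si.1.1 = mk σ (1 - i) (-(1 + i)) := by
    obtain ⟨Y, hY⟩ := exists_mk h (a := 1 - i) (b := -(1 + i)) (by
      rw [map_sub, map_neg, map_add, map_one, N.conj]; grobner)
    have : S * Y = 1 := Subtype.ext (Subtype.ext (by
      show S.1.1 * Y.1.1 = _
      rw [hS, hY, mk_mul inv]
      show mk σ _ _ = (1 : Matrix (Fin 2) (Fin 2) F)
      rw [show (1 : Matrix (Fin 2) (Fin 2) F) = mk σ 1 0 by simp [mk, Matrix.one_fin_two]]
      congr 1
      · rw [map_add, map_one, N.conj]; grobner
      · rw [map_add, map_one, N.conj]; ring))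
    rw [hSi, ← eq_inv_of_mul_eq_one_right this]; exact hY
  have hAH : S * T ∈ H := H.mul_mem hSH hTH
  have hB : (S * (S * T) * Si).1.1 = mk σ 0 1 := by
    show S.1.1 * (S * T).1.1 * Si.1.1 = _
    rw [hA, hS, hSi', mk_mul inv, mk_mul inv]
    congr 1
    · simp only [map_sub, map_add, map_mul, map_one, map_zero, map_neg, inv, N.conj]
      ring_nf
      grobner
    · simp only [map_sub, map_add, map_mul, map_one, map_zero, map_neg, inv, N.conj]
      ring_nf
      grobner
  have hBH : S * (S * T) * Si ∈ H := H.mul_mem (H.mul_mem hSH hAH) (hSi ▸ H.inv_mem hSH)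
  have hDH : ∀ u : F, u * σ u = 1 → ∀ x : Cfsg.SU 2 F 3, x.1.1 = mk σ u 0 → x ∈ H := by
    have hD : (S * T * (S * (S * T) * Si)).1.1 = mk σ i 0 := by
      show (S * T).1.1 * (S * (S * T) * Si).1.1 = _
      rw [hA, hB, mk_mul inv]
      congr 1
      · rw [N.conj]; ring
      · simp
    intro u hu x hx
    have hm : S * T * (S * (S * T) * Si) ∈ H := H.mul_mem hAH hBH
    generalize S * T * (S * (S * T) * Si) = D at hD hm
    have h4 : u ^ 4 = 1 := by rw [h.pow] at hu; linear_combination hu
    have hcases : u = 1 ∨ u = i ∨ u = -1 ∨ u = -i := by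
      rcases mul_eq_zero.1 (show (u ^ 2 - 1) * (u ^ 2 + 1) = 0 by linear_combination h4) with e | e
      · rcases mul_eq_zero.1 (show (u - 1) * (u + 1) = 0 by linear_combination e) with e' | e'
        · exact Or.inl (by linear_combination e')
        · exact Or.inr (Or.inr (Or.inl (by linear_combination e')))
      · rcases mul_eq_zero.1 (show (u - i) * (u + i) = 0 by linear_combination e - N.sq) with e' | e'
        · exact Or.inr (Or.inl (by linear_combination e'))
        · exact Or.inr (Or.inr (Or.inr (by linear_combination e')))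
    have h2 : (D * D).1.1 = mk σ (-1) 0 := by
      show D.1.1 * D.1.1 = _
      rw [hD, mk_mul inv]
      congr 1
      · simp [N.sq]
      · simp
    rcases hcases with rfl | rfl | rfl | rfl
    · exact mem H.one_mem (by simp [mk, Matrix.one_fin_two]) x hx
    · exact mem hm hD x hx
    · exact mem (H.mul_mem hm hm) h2 x hx
    · refine mem (H.mul_mem (H.mul_mem hm hm) hm) ?_ x hx
      show (D * D).1.1 * D.1.1 = _
      rw [h2, hD, mk_mul inv]
      congr 1 <;> simp
  have hmono : ∀ (u w : F) (x : Cfsg.SU 2 F 3), x.1.1 = mk σ u w → u * σ u + w * σ w = 1 →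
      u = 0 ∨ w = 0 → x ∈ H := by
    intro u w x hx huw h0
    rcases h0 with rfl | rfl
    · obtain ⟨D', hD'⟩ := exists_mk h (a := w) (b := 0) (by simpa using huw)
      refine mem (H.mul_mem hBH (hDH w (by simpa using huw) D' hD')) ?_ x hx
      show (S * (S * T) * Si).1.1 * D'.1.1 = _
      rw [hB, hD', mk_mul inv]
      congr 1 <;> simp
    · exact hDH u (by simpa using huw) x hx
  refine eq_top_iff.2 fun M _ => ?_
  have hM := su2_mk h M
  have hn := su2_norm h M
  generalize M.1.1 0 0 = a at hM hn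
  generalize M.1.1 1 0 = b at hM hn
  by_cases h0 : a = 0 ∨ b = 0
  · exact hmono a b M hM hn h0
  push Not at h0
  -- both entries have norm `-1`
  have hab : a * σ a = -1 ∧ b * σ b = -1 := by
    have ha := (norm_split hF h N a).resolve_left h0.1
    have hb := (norm_split hF h N b).resolve_left h0.2
    have hb0 : b * σ b ≠ 0 := mul_ne_zero h0.2 (by simpa using h0.2)
    rcases ha with ha | ha
    · exact absurd (by linear_combination hn - ha) hb0
    · exact ⟨ha, by grobner⟩
  -- one of two products with the first element is monomial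
  have hprod : ∀ (g : Cfsg.SU 2 F 3) (c d : F), g ∈ H → g.1.1 = mk σ c d →
      (c * a - σ d * b = 0 ∨ d * a + σ c * b = 0) → M ∈ H := by
    intro g c d hg he hz
    have := hmono _ _ (g * M) (by show g.1.1 * M.1.1 = _; rw [he, hM, mk_mul inv]) (by
      have := su2_norm h (g * M)
      change (g.1.1 * M.1.1) 0 0 * σ ((g.1.1 * M.1.1) 0 0) +
        (g.1.1 * M.1.1) 1 0 * σ ((g.1.1 * M.1.1) 1 0) = 1 at this
      rw [he, hM, mk_mul inv] at this
      simpa [mk] using this) hz
    have := H.mul_mem (H.inv_mem hg) this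
    rwa [inv_mul_cancel_left] at this
  obtain ⟨r, hr⟩ : ∃ r, r = b * σ a := ⟨_, rfl⟩
  have hr4 : r ^ 4 = 1 := by
    have : r * σ r = 1 := by
      rw [hr, map_mul, inv]; linear_combination b * σ b * hab.1 - hab.2
    rw [h.pow] at this; linear_combination this
  have hba : b = -(r * a) := by rw [hr]; linear_combination b * hab.1
  obtain ⟨Ti, hTi⟩ := exists_mk h (a := 1 - i) (b := -(i * (1 + i))) (by
    rw [map_sub, map_neg, map_mul, map_add, map_one, N.conj]; grobner)
  have hTiH : Ti ∈ H := by
    have : T * Ti = 1 := Subtype.ext (Subtype.ext (by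
      show T.1.1 * Ti.1.1 = _
      rw [hT, hTi, mk_mul inv]
      show mk σ _ _ = (1 : Matrix (Fin 2) (Fin 2) F)
      rw [show (1 : Matrix (Fin 2) (Fin 2) F) = mk σ 1 0 by simp [mk, Matrix.one_fin_two]]
      congr 1
      · rw [map_mul, map_add, map_one, N.conj]; grobner
      · rw [map_add, map_one, N.conj]; grobner))
    rw [eq_inv_of_mul_eq_one_right this]; exact H.inv_mem hTH
  rcases mul_eq_zero.1 (show (r ^ 2 - 1) * (r ^ 2 + 1) = 0 by linear_combination hr4) with e | e
  · rcases mul_eq_zero.1 (show (r - 1) * (r + 1) = 0 by linear_combination e) with e' | e'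
    · refine hprod Si _ _ (hSi ▸ H.inv_mem hSH) hSi' (Or.inl ?_)
      simp only [map_neg, map_add, map_one, N.conj]
      grobner
    · refine hprod Si _ _ (hSi ▸ H.inv_mem hSH) hSi' (Or.inr ?_)
      simp only [map_sub, map_one, N.conj]
      grobner
  · rcases mul_eq_zero.1 (show (r - i) * (r + i) = 0 by linear_combination e - N.sq) with e' | e'
    · refine hprod Ti _ _ hTiH hTi (Or.inl ?_)
      simp only [map_neg, map_mul, map_add, map_one, N.conj]
      grobner
    · refine hprod Ti _ _ hTiH hTi (Or.inr ?_)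
      simp only [map_sub, map_one, N.conj]
      grobner

end CfsgLib.Phan.Three
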