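import Cfsg.Agent.Lib.Phan.Three.Basic

/-!
A computation in the plane: two elements of order three whose product commutes with its conjugate are
trivial.
-/

set_option autoImplicit false

namespace CfsgLib.Phan.Three

open Matrix CfsgLib.Classical CfsgLib.Classical.Unitary

variable {F : Type*} [Field F] [Finite F] {σ : F →+* F} {i : F}

set_option maxHeartbeats 800000 in
/-- The element is trivial. -/
theorem plane_trivial (hF : Nat.card F = 3 ^ 2) (h : UFrob σ 3) (N : Nine σ i) {a b r : F}
    (ha : a + σ a = 2) (hn : a * σ a + b * σ b = 1) (hr : r * r = -1) {Y : Matrix (Fin 2) (Fin 2) F}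
    (hY : Y = mk σ a b * (mk σ a b * mk σ a (b * r)) * mk σ (σ a) (-b))
    (hc : mk σ a b * mk σ a (b * r) * Y = Y * (mk σ a b * mk σ a (b * r))) :
    a = 1 ∧ b = 0 := by
  have inv := h.invol
  obtain ⟨η, hη⟩ : ∃ η, η = a - 1 := ⟨_, rfl⟩
  have haη : a = 1 + η := by rw [hη]; ring
  have hsη : σ η = -η := by rw [hη, map_sub, map_one]; linear_combination ha
  subst haη
  have hNb : b * σ b = η * η := by
    rw [map_add, map_one, hsη] at hn; linear_combination hn
  have hsr : σ r = -r := by
    rcases mul_eq_zero.1 (show (r - i) * (r + i) = 0 by linear_combination hr - N.sq) with e | e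
    · rw [sub_eq_zero.1 e]; exact N.conj
    · rw [eq_neg_of_add_eq_zero_left e, map_neg, N.conj]
  rcases norm_split hF h N b with hb | hb | hb
  · refine ⟨?_, hb⟩
    rw [hb, zero_mul] at hNb
    linear_combination mul_self_eq_zero.1 hNb.symm
  · exfalso
    rw [hb] at hNb
    rcases mul_eq_zero.1 (show (η - 1) * (η + 1) = 0 by linear_combination -hNb) with e | e
    · rw [sub_eq_zero.1 e, map_one] at hsη
      exact N.two_ne (by linear_combination hsη)
    · rw [eq_neg_of_add_eq_zero_left e, map_neg, map_one] at hsη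
      exact N.two_ne (by linear_combination -hsη)
  · exfalso
    rw [hb] at hNb
    have hη2 : η * η = -1 := hNb.symm
    have hb0 : b ≠ 0 := fun e => by simp [e] at hb
    subst hY
    simp only [mk_mul inv] at hc
    obtain ⟨e0, e1⟩ := mk_inj hc
    simp only [map_add, map_sub, map_mul, map_neg, map_one, inv, hsη, hsr] at e0 e1
    have t3 := N.three
    obtain ⟨c, hcdef⟩ : ∃ c, c = σ b := ⟨_, rfl⟩
    rw [← hcdef] at e0 e1 hb
    rcases mul_eq_zero.1 (show (r - η) * (r + η) = 0 by linear_combination hr - hη2) with e | e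
    · rw [sub_eq_zero.1 e] at e0 e1
      exact hb0 (by grobner)
    · rw [eq_neg_of_add_eq_zero_left e] at e0 e1
      exact hb0 (by grobner)

end CfsgLib.Phan.Three
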