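import Cfsg.Agent.Lib.Phan.Three.Frame
import Cfsg.Agent.Lib.Phan.Three.Plane
import Cfsg.Agent.Lib.Phan.Rigid

/-!
Over the field with nine elements the three subgroups of a quotient of `SU 4` are, after conjugation,
the images of the three blocks.
-/

set_option autoImplicit false

namespace CfsgLib.Phan.Three

open Matrix CfsgLib.Classical CfsgLib.Classical.Unitary CfsgLib.Pres.SU CfsgLib.Pres.SU.Chain

variable {F : Type*} [Field F] {σ : F →+* F} {i : F} {h : UFrob σ 3} {G : Type*} [Group G]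
  {π : Cfsg.SU 4 F 3 →* G}

/-- Scalars lie above central elements. -/
theorem scalar_commute {z : Cfsg.SU 4 F 3} {l : F} (hl : ∀ x, z.1.1 *ᵥ x = l • x) {y : G}
    (hy : y ∈ π.range) : Commute (π z) y := by
  obtain ⟨y, rfl⟩ := hy
  exact (show Commute z y from su_ext fun x => by
    rw [su_mul_mulVec, su_mul_mulVec, hl, hl, mulVec_smul]).map π

/-- An element of order three above the subgroup fixes the plane. -/
theorem fixed_of_cube (N : Nine σ i) {z g : Cfsg.SU 4 F 3} {v : Fin 4 → F} {s : F} (hv : v ≠ 0)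
    (hzv : z.1.1 *ᵥ v = s • v) (h3 : g ^ 3 = 1) {l : F}
    (hl : ∀ x, z.1.1 *ᵥ x = s • x → g.1.1 *ᵥ x = l • x) :
    ∀ x, z.1.1 *ᵥ x = s • x → g.1.1 *ᵥ x = x := by
  have e : (g ^ 3).1.1 *ᵥ v = l ^ 3 • v := by
    rw [pow_succ, pow_two, su_mul_mulVec, su_mul_mulVec, hl v hzv, mulVec_smul, hl v hzv,
      mulVec_smul, mulVec_smul, hl v hzv, smul_smul, smul_smul]
    congr 1; ring
  rw [h3, su_one_mulVec] at e
  have h31 : l ^ 3 = 1 := smul_left_injective F hv (show l ^ 3 • v = (1 : F) • v by rw [one_smul]; exact e.symm)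
  intro x hx
  rw [hl x hx, cube_eq_one N h31, one_smul]

variable {Z J D S T : Cfsg.SU 2 F 3} [Finite F]

/-- A subgroup generated by two elements of order three. -/
theorem le_of_gens (hF : Nat.card F = 3 ^ 2) (h : UFrob σ 3) (N : Nine σ i)
    (E : Els σ i Z J D S T) (ν : Cfsg.SU 2 F 3 →* G) {H : Subgroup G} (hS : ν S ∈ H)
    (hT : ν T ∈ H) : ν.range ≤ H := by
  rintro _ ⟨M, rfl⟩
  have := top_of_two hF h N E.Sv E.Tv (H.comap ν) hS hT
  exact (show M ∈ H.comap ν from this ▸ Subgroup.mem_top M)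

set_option maxHeartbeats 1600000 in
/-- The three subgroups are images of the three blocks. -/
theorem exists_blocks (hF : Nat.card F = 3 ^ 2) (h : UFrob σ 3) (N : Nine σ i)
    (π : Cfsg.SU 4 F 3 →* G) (hπ : ∀ g, π g = 1 → ∃ l : F, ∀ x, g.1.1 *ᵥ x = l • x)
    {κ0 κ1 : Cfsg.SU 3 F 3 →* G} {U0 U1 U2 : Subgroup G} (C0 : IsChart h κ0 U0 U1)
    (C1 : IsChart h κ1 U1 U2)
    (hag : ∀ M, κ1 (embF h (sh 0 (show 0 + 2 ≤ 3 by omega)) M) =
      κ0 (embF h (sh 1 (show 1 + 2 ≤ 3 by omega)) M))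
    (hcomm : ∀ x ∈ U0, ∀ y ∈ U2, x * y = y * x) (r0 : κ0.range ≤ π.range)
    (r1 : κ1.range ≤ π.range) :
    ∃ π' : Cfsg.SU 4 F 3 →* G, π'.range = π.range ∧
      (∀ g, π' g = 1 → ∃ l : F, ∀ x, g.1.1 *ᵥ x = l • x) ∧
      (π'.comp (embF h (sh 0 (show 0 + 2 ≤ 4 by omega)))).range = U0 ∧
      (π'.comp (embF h (sh 1 (show 1 + 2 ≤ 4 by omega)))).range = U1 ∧
      (π'.comp (embF h (sh 2 (show 2 + 2 ≤ 4 by omega)))).range = U2 := by
  obtain ⟨Z, J, D, S, T, E⟩ := exists_els h N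
  obtain ⟨ν0, hν0⟩ : ∃ ν, ν = κ0.comp (embF h (sh 0 (show 0 + 2 ≤ 3 by omega))) := ⟨_, rfl⟩
  obtain ⟨ν1, hν1⟩ : ∃ ν, ν = κ0.comp (embF h (sh 1 (show 1 + 2 ≤ 3 by omega))) := ⟨_, rfl⟩
  obtain ⟨ν2, hν2⟩ : ∃ ν, ν = κ1.comp (embF h (sh 1 (show 1 + 2 ≤ 3 by omega))) := ⟨_, rfl⟩
  have ν0r : ν0.range ≤ π.range := by rintro _ ⟨M, rfl⟩; exact r0 ⟨_, by rw [hν0]; rfl⟩
  have ν1r : ν1.range ≤ π.range := by rintro _ ⟨M, rfl⟩; exact r0 ⟨_, by rw [hν1]; rfl⟩
  have ν2r : ν2.range ≤ π.range := by rintro _ ⟨M, rfl⟩; exact r1 ⟨_, by rw [hν2]; rfl⟩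
  have u0 : ν0.range = U0 := by rw [hν0]; exact C0.left
  have u1 : ν1.range = U1 := by rw [hν1]; exact C0.right
  have u2 : ν2.range = U2 := by rw [hν2]; exact C1.right
  have h02 : ∀ x y, Commute (ν0 x) (ν2 y) := fun x y =>
    hcomm _ (u0 ▸ ⟨x, rfl⟩) _ (u2 ▸ ⟨y, rfl⟩)
  -- lifts
  obtain ⟨a0, ha0⟩ := ν0r ⟨J, rfl⟩
  obtain ⟨d, hd⟩ := ν0r ⟨D, rfl⟩
  obtain ⟨a2, ha2⟩ := ν2r ⟨J, rfl⟩
  obtain ⟨b2, hb2⟩ := ν2r ⟨D, rfl⟩
  obtain ⟨s, hs, hs3⟩ := exists_lift_cube hπ (ν1r ⟨S, rfl⟩) (by rw [← map_pow, E.S3, map_one])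
  obtain ⟨t, ht⟩ : ∃ t, t = d * s * d⁻¹ := ⟨_, rfl⟩
  have htν : π t = ν1 T := by
    rw [ht, map_mul, map_mul, map_inv, hs, hd, hν0, hν1]
    simp only [MonoidHom.comp_apply, ← map_inv, ← map_mul]
    rw [map_inv (embF h _), E.conj N]
  have ht3 : t ^ 3 = 1 := by rw [ht, conj_pow, hs3, mul_one, mul_inv_cancel]
  have Q0 := exists_quat hF h N hπ ν0 ν0r E.JJ E.DJ E.cent ha0 hd
  have Q2 := exists_quat hF h N hπ ν2 ν2r E.JJ E.DJ E.cent ha2 hb2
  have Q1 := exists_quat hF h N hπ ν1 ν1r E.AA E.BA E.cent (a := s * t) (b := s * (s * t) * s⁻¹)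
    (by rw [map_mul, map_mul, hs, htν]) (by simp only [map_mul, map_inv, hs, htν])
  obtain ⟨z0, hz0⟩ : ∃ z, z = d * a0 * d⁻¹ * a0⁻¹ := ⟨_, rfl⟩
  obtain ⟨z2, hz2⟩ : ∃ z, z = b2 * a2 * b2⁻¹ * a2⁻¹ := ⟨_, rfl⟩
  obtain ⟨z1, hz1⟩ : ∃ z, z = s * (s * t) * s⁻¹ * (s * t) * (s * (s * t) * s⁻¹)⁻¹ * (s * t)⁻¹ :=
    ⟨_, rfl⟩
  rw [← hz0] at Q0
  rw [← hz2] at Q2
  rw [← hz1] at Q1
  -- they are not scalar
  have n0 : ¬∃ l : F, ∀ x, z0.1.1 *ᵥ x = l • x := fun ⟨l, hl⟩ => (E.not_commute N C0).1 fun M => by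
    have := scalar_commute hl (ν1r ⟨M, rfl⟩)
    rw [Q0.above, hν0, hν1] at this
    exact this
  have n2 : ¬∃ l : F, ∀ x, z2.1.1 *ᵥ x = l • x := fun ⟨l, hl⟩ => (E.not_commute N C1).2 fun M => by
    have := scalar_commute hl (ν1r ⟨M, rfl⟩)
    rw [Q2.above, hν2, hν1] at this
    rw [hag]
    exact this
  obtain ⟨hneg, hscal0⟩ := pair hF h N hπ ν2r h02 Q0 Q2 n0 n2
  obtain ⟨-, hscal2⟩ := pair hF h N hπ ν0r (fun x y => (h02 y x).symm) Q2 Q0 n2 n0
  have zz : ∀ x, z0.1.1 *ᵥ (z0.1.1 *ᵥ x) = x := fun x => by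
    rw [← su_mul_mulVec, Q0.sq, su_one_mulVec]
  -- eigenvectors exist
  obtain ⟨vp, hvp0, hvp⟩ : ∃ v, v ≠ 0 ∧ z0.1.1 *ᵥ v = v := by
    by_contra hh
    push Not at hh
    refine n0 ⟨-1, fun x => ?_⟩
    by_contra hx
    refine hh (x + z0.1.1 *ᵥ x) (fun e => hx ?_) (by rw [mulVec_add, zz, add_comm])
    rw [neg_one_smul]
    exact eq_neg_of_add_eq_zero_right e
  obtain ⟨vm, hvm0, hvm⟩ : ∃ v, v ≠ 0 ∧ z0.1.1 *ᵥ v = -v := by
    by_contra hh
    push Not at hh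
    refine n0 ⟨1, fun x => ?_⟩
    by_contra hx
    refine hh (x - z0.1.1 *ᵥ x) (fun e => hx ?_) (by rw [mulVec_sub, zz]; abel)
    rw [one_smul]
    exact (sub_eq_zero.1 e).symm
  have fix0 : ∀ g, π g ∈ ν0.range → g ^ 3 = 1 → ∀ x, z0.1.1 *ᵥ x = x → g.1.1 *ᵥ x = x := by
    intro g hg h3 x hx
    obtain ⟨l, hl⟩ := hscal0 g hg
    exact fixed_of_cube N hvp0 (s := 1) (by rw [one_smul, hvp]) h3
      (fun y hy => hl y (by rwa [one_smul] at hy)) x (by rwa [one_smul])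
  have fix2 : ∀ g, π g ∈ ν2.range → g ^ 3 = 1 → ∀ x, z0.1.1 *ᵥ x = -x → g.1.1 *ᵥ x = x := by
    intro g hg h3 x hx
    obtain ⟨l, hl⟩ := hscal2 g hg
    exact fixed_of_cube N hvm0 (s := -1) (by rw [neg_one_smul, hvm]) h3
      (fun y hy => hl y (by rw [hneg, hy, neg_one_smul, neg_neg])) x (by rwa [neg_one_smul])
  -- the middle involution normalises the first subgroup
  have hz1z0 : Commute z1 z0 := by
    have hZ10 : Z.1.1 1 0 = 0 := by simp [E.Zv, Three.mk]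
    have hconj : ∀ g, π g ∈ ν0.range → π (z1 * g * z1⁻¹) ∈ ν0.range := by
      rintro g ⟨M, hM⟩
      obtain ⟨M', hM'⟩ := exists_conj_sh (h := h) Z hZ10 1 0 (show 1 + 2 ≤ 3 by omega) (by omega)
        (Or.inr rfl) M
      refine ⟨M', ?_⟩
      rw [map_mul, map_mul, map_inv, Q1.above, ← hM, hν0, hν1]
      simp only [MonoidHom.comp_apply, ← map_inv, ← map_mul]
      rw [map_inv (embF h _), hM']
    have hdiag : Commute (π z1) (π z0) := by
      rw [Q1.above, Q0.above, hν0, hν1]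
      refine Commute.map (su_ext fun y => ?_) κ0
      rw [su_mul_mulVec, su_mul_mulVec]
      simp only [sh0_apply, sh1_apply, E.Zv]
      funext r
      fin_cases r <;> simp [Three.mk]
    obtain ⟨l, -, hl⟩ := scal_of_comm hπ hdiag
    have hl2 : l * l = 1 := by
      have e : z1.1.1 *ᵥ vp = (l * l) • (z1.1.1 *ᵥ vp) := by
        conv_lhs => rw [← zz vp]
        rw [hl, hl, mulVec_smul, zz, smul_smul]
      exact (smul_left_injective F
        (fun e0 : z1.1.1 *ᵥ vp = 0 => hvp0 (by rw [← su_inv_mulVec z1 vp, e0, mulVec_zero]))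
        (show (1 : F) • (z1.1.1 *ᵥ vp) = (l * l) • (z1.1.1 *ᵥ vp) by rwa [one_smul])).symm
    rcases mul_self_eq_one_iff.1 hl2 with rfl | rfl
    · exact su_ext fun x => by rw [su_mul_mulVec, su_mul_mulVec, hl, one_smul]
    · exfalso
      have hflip : ∀ x, z0.1.1 *ᵥ x = -x → z0.1.1 *ᵥ (z1.1.1 *ᵥ x) = z1.1.1 *ᵥ x := fun x hx => by
        have := hl x
        rw [hx, mulVec_neg, neg_one_smul] at this
        exact (neg_inj.1 this).symm
      have triv : ∀ g, π g ∈ ν0.range → g ^ 3 = 1 → g = 1 := by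
        intro g hg h3
        refine su_ext fun x => ?_
        rw [su_one_mulVec]
        have f : ∀ y, z0.1.1 *ᵥ y = -y → g.1.1 *ᵥ y = y := by
          intro y hy
          have := fix0 (z1 * g * z1⁻¹) (hconj g hg) (by rw [conj_pow, h3, mul_one, mul_inv_cancel])
            (z1.1.1 *ᵥ y) (hflip y hy)
          rw [su_mul_mulVec, su_mul_mulVec, su_inv_mulVec] at this
          have := congrArg (fun v => (z1⁻¹).1.1 *ᵥ v) this
          simpa only [su_inv_mulVec] using this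
        have e1 := fix0 g hg h3 (x + z0.1.1 *ᵥ x) (by rw [mulVec_add, zz, add_comm])
        have e2 := f (x - z0.1.1 *ᵥ x) (by rw [mulVec_sub, zz]; abel)
        rw [mulVec_add] at e1
        rw [mulVec_sub] at e2
        refine smul_right_injective _ N.two_ne ?_
        linear_combination (norm := module) e1 + e2
      obtain ⟨g, hg, h3⟩ := exists_lift_cube hπ (ν0r ⟨S, rfl⟩) (by rw [← map_pow, E.S3, map_one])
      have : ν0 S = ν0 1 := by rw [← hg, triv g ⟨S, hg.symm⟩ h3, map_one, map_one]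
      rw [hν0] at this
      have := congrArg (fun M : Cfsg.SU 2 F 3 => M.1.1 1 0) (C0.inj 0 (by omega) this)
      simp [E.Sv, Three.mk] at this
      exact N.two_ne (by linear_combination (1 - i) * this + N.sq)
  -- not scalar on the eigenspaces
  have hns : ∀ sg c : F, sg * sg = 1 →
      ¬∀ x, z0.1.1 *ᵥ x = sg • x → z1.1.1 *ᵥ x = c • x := by
    intro sg c hsg hc
    have glue : ∀ g, Commute g z0 → ∀ l : F, (∀ x, z0.1.1 *ᵥ x = -(sg • x) → g.1.1 *ᵥ x = l • x) →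
        Commute g z1 := by
      intro g hgz l hl
      have hA : ∀ x, z0.1.1 *ᵥ x = sg • x →
          g.1.1 *ᵥ (z1.1.1 *ᵥ x) = z1.1.1 *ᵥ (g.1.1 *ᵥ x) := fun x hx => by
        rw [hc x hx, hc (g.1.1 *ᵥ x) (by rw [← comm_mulVec hgz, hx, mulVec_smul]), mulVec_smul]
      have hB : ∀ x, z0.1.1 *ᵥ x = -(sg • x) →
          g.1.1 *ᵥ (z1.1.1 *ᵥ x) = z1.1.1 *ᵥ (g.1.1 *ᵥ x) := fun x hx => by
        rw [hl x hx, hl (z1.1.1 *ᵥ x) (by
          rw [← comm_mulVec hz1z0, hx, mulVec_neg, mulVec_smul]), mulVec_smul]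
      refine su_ext fun x => ?_
      rw [su_mul_mulVec, su_mul_mulVec]
      have e1 := hA (x + sg • (z0.1.1 *ᵥ x)) (by
        rw [mulVec_add, mulVec_smul, zz, smul_add, smul_smul, hsg, one_smul, add_comm])
      have e2 := hB (x - sg • (z0.1.1 *ᵥ x)) (by
        rw [mulVec_sub, mulVec_smul, zz, smul_sub, smul_smul, hsg, one_smul]; abel)
      simp only [mulVec_add, mulVec_sub] at e1 e2
      refine smul_right_injective _ N.two_ne ?_
      linear_combination (norm := module) e1 + e2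
    rcases mul_self_eq_one_iff.1 hsg with rfl | rfl
    · refine (E.not_commute N C1).1 fun M => ?_
      obtain ⟨g, hg⟩ := ν2r ⟨M, rfl⟩
      obtain ⟨l, hl⟩ := hscal2 g ⟨M, hg.symm⟩
      have hgz : Commute g z0 := (commute_above hF h N hπ ν2 ν2r (fun y => Q0.above ▸ h02 Z y)
        (b := g) ⟨M, hg.symm⟩).symm
      have := (glue g hgz l fun x hx => hl x (by rw [hneg, hx, one_smul, neg_neg])).symm.map π
      rw [hg, Q1.above, hν2, hν1] at this
      rw [hag]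
      exact this
    · refine (E.not_commute N C0).2 fun M => ?_
      obtain ⟨g, hg⟩ := ν0r ⟨M, rfl⟩
      obtain ⟨l, hl⟩ := hscal0 g ⟨M, hg.symm⟩
      have := (glue g (Q0.comm g ⟨M, hg.symm⟩).symm l fun x hx =>
        hl x (by rw [hx, neg_one_smul, neg_neg])).symm.map π
      rw [hg, Q1.above, hν0, hν1] at this
      exact this
  obtain ⟨g, hg⟩ := exists_frame hF h N Q0.sq Q1.sq hz1z0.symm hns
  obtain ⟨o, ho⟩ : ∃ o : Fin 4 → Fin 4 → F, o = fun j => g.1.1 *ᵥ Pi.single j 1 := ⟨_, rfl⟩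
  have gj : ∀ j, g.1.1 *ᵥ Pi.single j 1 = o j := fun j => by rw [ho]
  simp only [gj] at hg
  have z00 : z0.1.1 *ᵥ o 0 = -o 0 := by simpa using (hg 0).1
  have z01 : z0.1.1 *ᵥ o 1 = -o 1 := by simpa using (hg 1).1
  have z02 : z0.1.1 *ᵥ o 2 = o 2 := by simpa using (hg 2).1
  have z03 : z0.1.1 *ᵥ o 3 = o 3 := by simpa using (hg 3).1
  have z10 : z1.1.1 *ᵥ o 0 = o 0 := by simpa using (hg 0).2
  have z11 : z1.1.1 *ᵥ o 1 = -o 1 := by simpa using (hg 1).2
  have z12 : z1.1.1 *ᵥ o 2 = -o 2 := by simpa using (hg 2).2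
  have z13 : z1.1.1 *ᵥ o 3 = o 3 := by simpa using (hg 3).2
  have oo : ∀ a b, uh σ (o a) (o b) = if a = b then 1 else 0 := fun a b => by
    rw [← gj, ← gj, su_uh h g, uh_single_left]
    simp [Pi.single_apply]
  have expand : ∀ x, x = uh σ x (o 0) • o 0 + uh σ x (o 1) • o 1 + uh σ x (o 2) • o 2 +
      uh σ x (o 3) • o 3 := fun x => by
    have e : ∀ j, uh σ x (o j) = ((g⁻¹).1.1 *ᵥ x) j := fun j => by
      conv_lhs => rw [← su_mulVec_inv g x, ← gj, su_uh h g, uh_single_right, map_one, mul_one]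
    simp only [e]
    conv_lhs => rw [← su_mulVec_inv g x, ← Finset.univ_sum_single ((g⁻¹).1.1 *ᵥ x), Fin.sum_univ_four]
    simp only [mulVec_add, su_single, gj]
  -- the plane fixed by the middle involution
  have plane : ∀ x, z1.1.1 *ᵥ x = x → x = uh σ x (o 0) • o 0 + uh σ x (o 3) • o 3 := by
    intro x hx
    have e1 : uh σ x (o 1) = 0 := (orth_pm h N hx z11).1
    have e2 : uh σ x (o 2) = 0 := (orth_pm h N hx z12).1
    conv_lhs => rw [expand x, e1, e2]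
    simp
  have h30 : (3 : Fin 4) ≠ 0 := by decide
  have uu : uh σ (o 0) (o 0) = 1 := by rw [oo, if_pos rfl]
  have ww : uh σ (o 3) (o 3) = 1 := by rw [oo, if_pos rfl]
  have uw : uh σ (o 0) (o 3) = 0 := by rw [oo, if_neg h30.symm]
  have wu : uh σ (o 3) (o 0) = 0 := by rw [oo, if_neg h30]
  have keeps : ∀ y, Commute z1 y → Keeps σ (o 0) (o 3) y := fun y hy =>
    ⟨plane _ (by rw [comm_mulVec hy, z10]), plane _ (by rw [comm_mulVec hy, z13])⟩
  have hsz : Commute z1 s := Q1.comm s ⟨S, hs.symm⟩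
  have htz : Commute z1 t := Q1.comm t ⟨T, htν.symm⟩
  obtain ⟨a, b, ha, hn, hPs⟩ := coef_cube h N uu ww uw wu (keeps s hsz) hs3
  -- the diagonal element
  obtain ⟨ν, hνd⟩ := hscal0 d ⟨D, hd.symm⟩
  have hd3 : d.1.1 *ᵥ o 3 = ν • o 3 := hνd _ z03
  have hdz0 : Commute z0 d := Q0.comm d ⟨D, hd.symm⟩
  have hdz1 : Commute z1 d := by
    obtain ⟨l, -, hl⟩ := scal_of_comm hπ (a := z1) (b := d) (by
      rw [Q1.above, hd, hν0, hν1]
      refine Commute.map (su_ext fun y => ?_) κ0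
      rw [su_mul_mulVec, su_mul_mulVec]
      simp only [sh0_apply, sh1_apply, E.Zv, E.Dv]
      funext r
      fin_cases r <;> simp [Three.mk, mul_comm])
    have e := hl (o 3)
    rw [z13, hd3, mulVec_smul, z13, smul_smul] at e
    have hν0' : ν ≠ 0 := fun e0 => by
      have := su_uh h d (o 3) (o 3)
      rw [hd3, e0, zero_smul, uh_zero_left, ww] at this
      exact zero_ne_one this
    have ho3 : o 3 ≠ 0 := fun e0 => by rw [e0, uh_zero_left] at ww; exact zero_ne_one ww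
    have hl1 : l = 1 := by
      have := smul_left_injective F ho3 e
      exact (mul_eq_right₀ hν0').1 this.symm
    subst hl1
    exact su_ext fun x => by rw [su_mul_mulVec, su_mul_mulVec, hl, one_smul]
  obtain ⟨p, hp⟩ : ∃ p, p = uh σ (d.1.1 *ᵥ o 0) (o 0) := ⟨_, rfl⟩
  have hd0 : d.1.1 *ᵥ o 0 = p • o 0 := by
    have e3 : uh σ (d.1.1 *ᵥ o 0) (o 3) = 0 :=
      (orth_pm h N z03 (by rw [comm_mulVec hdz0, z00, mulVec_neg])).2
    rw [(keeps d hdz1).1, e3, hp]; simp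
  have pp : p * σ p = 1 := by
    have := su_uh h d (o 0) (o 0)
    rw [hd0, uh_smul_left, uh_smul_right, uu, mul_one] at this
    exact this
  have νν : ν * σ ν = 1 := by
    have := su_uh h d (o 3) (o 3)
    rw [hd3, uh_smul_left, uh_smul_right, ww, mul_one] at this
    exact this
  obtain ⟨r, hr⟩ : ∃ r, r = ν * σ p := ⟨_, rfl⟩
  have hr2 : r * r = -1 := by
    obtain ⟨l, -, hl⟩ := scal_of_eq hπ (a := d * d) (b := z0) (by
      rw [map_mul, hd, Q0.above, ← map_mul]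
      congr 1
      refine Subtype.ext (Subtype.ext ?_)
      show D.1.1 * D.1.1 = _
      rw [E.Dv, E.Zv, mk_mul h.invol]
      congr 1 <;> simp [N.sq])
    have e0 := congrArg (fun v => uh σ v (o 0)) (hl (o 0))
    have e3 := congrArg (fun v => uh σ v (o 3)) (hl (o 3))
    simp only [su_mul_mulVec, hd0, hd3, mulVec_smul, z00, z03, smul_neg] at e0 e3
    simp only [← neg_smul, smul_smul, uh_smul_left, uu, ww, mul_one] at e0 e3
    rw [hr]
    linear_combination (σ p * σ p) * (e0 + e3) - (p * σ p + 1) * pp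
  have hdi : d⁻¹.1.1 *ᵥ o 0 = σ p • o 0 ∧ d⁻¹.1.1 *ᵥ o 3 = σ ν • o 3 := by
    constructor
    · conv_lhs => rw [show o 0 = d.1.1 *ᵥ (σ p • o 0) by
        rw [mulVec_smul, hd0, smul_smul, mul_comm, pp, one_smul]]
      rw [su_inv_mulVec]
    · conv_lhs => rw [show o 3 = d.1.1 *ᵥ (σ ν • o 3) by
        rw [mulVec_smul, hd3, smul_smul, mul_comm, νν, one_smul]]
      rw [su_inv_mulVec]
  obtain ⟨s0, s3⟩ := keeps s hsz
  have hPt : coef σ (o 0) (o 3) t = mk σ a (b * r) := by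
    have q00 := congrFun (congrFun hPs 0) 0
    have q01 := congrFun (congrFun hPs 0) 1
    have q10 := congrFun (congrFun hPs 1) 0
    have q11 := congrFun (congrFun hPs 1) 1
    simp [coef, Three.mk] at q00 q01 q10 q11
    rw [q00, q10] at s0
    rw [q01, q11] at s3
    have t0 : t.1.1 *ᵥ o 0 = a • o 0 + (b * r) • o 3 := by
      rw [ht, su_mul_mulVec, su_mul_mulVec, hdi.1, mulVec_smul, mulVec_smul, s0, mulVec_add,
        mulVec_smul, mulVec_smul, hd0, hd3, smul_add, smul_smul, smul_smul, smul_smul, smul_smul]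
      congr 1
      · congr 1
        linear_combination a * pp
      · congr 1
        rw [hr]; ring
    have t3 : t.1.1 *ᵥ o 3 = (-σ (b * r)) • o 0 + σ a • o 3 := by
      rw [ht, su_mul_mulVec, su_mul_mulVec, hdi.2, mulVec_smul, mulVec_smul, s3, mulVec_add,
        mulVec_smul, mulVec_smul, hd0, hd3, smul_add, smul_smul, smul_smul, smul_smul, smul_smul]
      congr 1
      · congr 1
        rw [hr, map_mul, map_mul, h.invol]; ring
      · congr 1
        linear_combination σ a * νν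
    ext u v
    fin_cases u <;> fin_cases v <;>
      simp only [coef, Three.mk, t0, t3, uh_add_left, uh_smul_left, uu, ww, uw, wu] <;> simp
  have hsi : coef σ (o 0) (o 3) s⁻¹ = mk σ (σ a) (-b) := by
    have e1 := coef_mul uu ww uw wu s⁻¹ (keeps s hsz)
    rw [inv_mul_cancel, coef_one uu ww uw wu, hPs] at e1
    have e2 : mk σ a b * mk σ (σ a) (-b) = 1 := by
      rw [mk_mul h.invol, show (1 : Matrix (Fin 2) (Fin 2) F) = mk σ 1 0 by
        simp [mk, Matrix.one_fin_two]]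
      congr 1
      · linear_combination hn
      · ring
    exact (left_inv_eq_right_inv e1.symm e2)
  have hPA : coef σ (o 0) (o 3) (s * t) = mk σ a b * mk σ a (b * r) := by
    rw [coef_mul uu ww uw wu s (keeps t htz), hPs, hPt]
  obtain ⟨hab, hb⟩ := plane_trivial hF h N ha hn hr2 (Y := coef σ (o 0) (o 3) (s * (s * t) * s⁻¹))
    (by rw [coef_mul uu ww uw wu _ (keeps s⁻¹ hsz.inv_right),
      coef_mul uu ww uw wu s (keeps (s * t) (hsz.mul_right htz)), hPs, hPA, hsi]) (by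
    have e : s * (s * t) * s⁻¹ * (s * t) = z1 * (s * t * (s * (s * t) * s⁻¹)) := by
      rw [hz1]; group
    have hzy : Commute z1 (s * (s * t) * s⁻¹) :=
      (hsz.mul_right (hsz.mul_right htz)).mul_right hsz.inv_right
    have hz : coef σ (o 0) (o 3) z1 = 1 := by
      simp [coef, z10, z13, uu, ww, uw, wu, Matrix.one_fin_two]
    have := congrArg (coef σ (o 0) (o 3)) e
    rw [coef_mul uu ww uw wu _ (keeps (s * t) (hsz.mul_right htz)),
      coef_mul uu ww uw wu z1 (keeps _ ((hsz.mul_right htz).mul_right hzy)), hz, one_mul,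
      coef_mul uu ww uw wu _ (keeps _ hzy), hPA] at this
    exact this.symm)
  subst hab hb
  -- the conjugate
  let π' := π.comp (MulAut.conj g).toMonoidHom
  have hπ' : ∀ y, π' y = 1 → ∃ l : F, ∀ x, y.1.1 *ᵥ x = l • x := by
    intro y hy
    obtain ⟨l, hl⟩ := hπ _ hy
    refine ⟨l, fun x => ?_⟩
    have e := hl (g.1.1 *ᵥ x)
    rw [show (MulAut.conj g).toMonoidHom y = g * y * g⁻¹ from rfl, su_mul_mulVec, su_mul_mulVec,
      su_inv_mulVec] at e
    have := congrArg (fun v => (g⁻¹).1.1 *ᵥ v) e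
    simpa only [su_inv_mulVec, mulVec_smul] using this
  have mem : ∀ (k : ℕ) (hk : k + 2 ≤ 4) (y : Cfsg.SU 4 F 3),
      (∀ j : Fin 4, j.val < k ∨ k + 2 ≤ j.val → y.1.1 *ᵥ o j = o j) →
      π y ∈ (π'.comp (embF h (sh k hk))).range := by
    intro k hk y hy
    obtain ⟨M, hM⟩ := mem_range_sh h k hk (g⁻¹ * y * g) fun j hj => by
      rw [su_mul_mulVec, su_mul_mulVec, gj, hy j hj, ← gj, su_inv_mulVec]
    refine ⟨M, ?_⟩
    show π (MulAut.conj g (embF h (sh k hk) M)) = π y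
    rw [hM, MulAut.conj_apply]
    congr 1
    group
  have finish : ∀ (k : ℕ) (hk : k + 2 ≤ 4) (ν : Cfsg.SU 2 F 3 →* G) (U : Subgroup G), ν.range = U →
      Function.Injective ν → ν S ∈ (π'.comp (embF h (sh k hk))).range →
      ν T ∈ (π'.comp (embF h (sh k hk))).range → (π'.comp (embF h (sh k hk))).range = U := by
    intro k hk ν U hU hinj hS hT
    have hle := le_of_gens hF h N E ν hS hT
    rw [← hU]
    have : Finite (π'.comp (embF h (sh k hk))).range :=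
      Finite.of_surjective _ (MonoidHom.rangeRestrict_surjective _)
    refine (Subgroup.eq_of_le_of_card_ge hle ?_).symm
    calc Nat.card (π'.comp (embF h (sh k hk))).range ≤ Nat.card (Cfsg.SU 2 F 3) :=
          Nat.card_le_card_of_surjective _ (MonoidHom.rangeRestrict_surjective _)
      _ = Nat.card ν.range := Nat.card_congr (MonoidHom.ofInjective hinj).toEquiv
  have fixed1 : ∀ y, coef σ (o 0) (o 3) y = mk σ 1 0 → Commute z1 y →
      ∀ j : Fin 4, j.val < 1 ∨ 1 + 2 ≤ j.val → y.1.1 *ᵥ o j = o j := by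
    intro y hy hyz j hj
    obtain ⟨y0, y3⟩ := keeps y hyz
    have q00 := congrFun (congrFun hy 0) 0
    have q01 := congrFun (congrFun hy 0) 1
    have q10 := congrFun (congrFun hy 1) 0
    have q11 := congrFun (congrFun hy 1) 1
    simp [coef, Three.mk] at q00 q01 q10 q11
    rw [q00, q10] at y0
    rw [q01, q11] at y3
    fin_cases j <;> simp at hj ⊢
    · simpa using y0
    · simpa using y3
  have cube0 : ∀ M : Cfsg.SU 2 F 3, M ^ 3 = 1 →
      ν0 M ∈ (π'.comp (embF h (sh 0 (show 0 + 2 ≤ 4 by omega)))).range := by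
    intro M hM
    obtain ⟨y, hy, hy3⟩ := exists_lift_cube hπ (ν0r ⟨M, rfl⟩) (by rw [← map_pow, hM, map_one])
    rw [← hy]
    refine mem 0 _ y fun j hj => fix0 y ⟨M, hy.symm⟩ hy3 _ ?_
    fin_cases j <;> simp at hj <;> assumption
  have cube2 : ∀ M : Cfsg.SU 2 F 3, M ^ 3 = 1 →
      ν2 M ∈ (π'.comp (embF h (sh 2 (show 2 + 2 ≤ 4 by omega)))).range := by
    intro M hM
    obtain ⟨y, hy, hy3⟩ := exists_lift_cube hπ (ν2r ⟨M, rfl⟩) (by rw [← map_pow, hM, map_one])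
    rw [← hy]
    refine mem 2 _ y fun j hj => fix2 y ⟨M, hy.symm⟩ hy3 _ ?_
    fin_cases j <;> simp at hj <;> assumption
  refine ⟨π', ?_, hπ',
    finish 0 _ ν0 U0 u0 (hν0 ▸ C0.inj 0 (by omega)) (cube0 S E.S3) (cube0 T E.T3),
    finish 1 _ ν1 U1 u1 (hν1 ▸ C0.inj 1 (by omega))
      (hs ▸ mem 1 _ s (fixed1 s hPs hsz))
      (htν ▸ mem 1 _ t (fixed1 t (by rw [hPt, zero_mul]) htz)),
    finish 2 _ ν2 U2 u2 (hν2 ▸ C1.inj 1 (by omega)) (cube2 S E.S3) (cube2 T E.T3)⟩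
  exact le_antisymm (by rintro _ ⟨y, rfl⟩; exact ⟨_, rfl⟩) (by
    rintro _ ⟨y, rfl⟩
    exact ⟨(MulAut.conj g).symm y, congrArg π ((MulAut.conj g).apply_symm_apply y)⟩)

end CfsgLib.Phan.Three
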