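import Cfsg.Agent.Lib.Phan.Three.Pairs
import Cfsg.Agent.Lib.Phan.Align

/-!
Elements of the blocks of `SU 3` over the field with nine elements, and what charts say about them.
-/

set_option autoImplicit false

namespace CfsgLib.Phan.Three

open Matrix CfsgLib.Classical CfsgLib.Classical.Unitary CfsgLib.Pres.SU CfsgLib.Pres.SU.Chain

variable {F : Type*} [Field F] {σ : F →+* F} {i : F} {G : Type*} [Group G]

theorem sh0_apply {q : ℕ} (h : UFrob σ q) (M : Cfsg.SU 2 F q) (y : Fin 3 → F) :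
    (embF h (sh 0 (show 0 + 2 ≤ 3 by omega)) M).1.1 *ᵥ y =
      ![M.1.1 0 0 * y 0 + M.1.1 0 1 * y 1, M.1.1 1 0 * y 0 + M.1.1 1 1 * y 1, y 2] := by
  rw [← embF_congr h f01_eq]; exact embF01_apply h M y

theorem sh1_apply {q : ℕ} (h : UFrob σ q) (M : Cfsg.SU 2 F q) (y : Fin 3 → F) :
    (embF h (sh 1 (show 1 + 2 ≤ 3 by omega)) M).1.1 *ᵥ y =
      ![y 0, M.1.1 0 0 * y 1 + M.1.1 0 1 * y 2, M.1.1 1 0 * y 1 + M.1.1 1 1 * y 2] := by
  rw [← embF_congr h f12_eq]; exact embF12_apply h M y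

/-- The elements of the quaternion group. -/
structure Els (σ : F →+* F) (i : F) (Z J D S T : Cfsg.SU 2 F 3) : Prop where
  Zv : Z.1.1 = mk σ (-1) 0
  Jv : J.1.1 = mk σ 0 1
  Dv : D.1.1 = mk σ i 0
  Sv : S.1.1 = mk σ (1 + i) (1 + i)
  Tv : T.1.1 = mk σ (1 + i) (i * (1 + i))
  S3 : S ^ 3 = 1
  T3 : T ^ 3 = 1
  cent : ∀ M, Commute Z M
  JJ : J * J = Z
  DJ : D * J * D⁻¹ * J⁻¹ = Z
  AA : S * T * (S * T) = Z
  BA : S * (S * T) * S⁻¹ * (S * T) * (S * (S * T) * S⁻¹)⁻¹ * (S * T)⁻¹ = Z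

theorem exists_els (h : UFrob σ 3) (N : Nine σ i) : ∃ Z J D S T, Els σ i Z J D S T := by
  have i2 := N.sq
  have t3 := N.three
  have inv := h.invol
  obtain ⟨S, T, hS, hT, hS3, hT3⟩ := exists_gens h N
  obtain ⟨J, hJ⟩ := exists_mk h (a := (0 : F)) (b := 1) (by simp)
  obtain ⟨D, hD⟩ := exists_mk h (a := i) (b := 0) (by rw [N.conj, map_zero]; grobner)
  obtain ⟨Z, hZ⟩ := exists_mk h (a := (-1 : F)) (b := 0) (by simp)
  have ext : ∀ {X Y : Cfsg.SU 2 F 3}, X.1.1 = Y.1.1 → X = Y := fun e => Subtype.ext (Subtype.ext e)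
  have hcent : ∀ M, Commute Z M := fun M => ext (by
    show Z.1.1 * M.1.1 = M.1.1 * Z.1.1
    rw [hZ, show mk σ (-1) 0 = (-1 : Matrix (Fin 2) (Fin 2) F) by
      simp [mk, Matrix.one_fin_two]]
    rw [neg_one_mul, mul_neg_one])
  have hA : (S * T).1.1 = mk σ 0 i := by
    show S.1.1 * T.1.1 = _
    rw [hS, hT, mk_mul inv]
    congr 1 <;> (simp only [map_add, map_one, N.conj]; grobner)
  have hSi : (S⁻¹).1.1 = mk σ (1 - i) (-(1 + i)) := by
    obtain ⟨Y, hY⟩ := exists_mk h (a := 1 - i) (b := -(1 + i)) (by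
      simp only [map_sub, map_neg, map_add, map_one, N.conj]; grobner)
    have : S * Y = 1 := ext (by
      show S.1.1 * Y.1.1 = _
      rw [hS, hY, mk_mul inv]
      show mk σ _ _ = (1 : Matrix (Fin 2) (Fin 2) F)
      rw [show (1 : Matrix (Fin 2) (Fin 2) F) = mk σ 1 0 by simp [mk, Matrix.one_fin_two]]
      congr 1 <;> (simp only [map_add, map_one, N.conj]; grobner))
    rw [← eq_inv_of_mul_eq_one_right this]; exact hY
  have hB : (S * (S * T) * S⁻¹).1.1 = mk σ 0 1 := by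
    show S.1.1 * (S * T).1.1 * (S⁻¹).1.1 = _
    rw [hA, hS, hSi, mk_mul inv, mk_mul inv]
    congr 1 <;>
      (simp only [map_sub, map_add, map_mul, map_one, map_zero, map_neg, inv, N.conj]; grobner)
  have anti : ∀ (X Y : Cfsg.SU 2 F 3), X * Y = Z * (Y * X) → X * Y * X⁻¹ * Y⁻¹ = Z := fun X Y e => by
    rw [e]; group
  refine ⟨Z, J, D, S, T, hZ, hJ, hD, hS, hT, hS3, hT3, hcent, ext ?_, anti D J (ext ?_), ext ?_,
    anti _ _ (ext ?_)⟩
  · show J.1.1 * J.1.1 = _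
    rw [hJ, hZ, mk_mul inv]
    congr 1 <;> simp
  · show D.1.1 * J.1.1 = Z.1.1 * (J.1.1 * D.1.1)
    rw [hJ, hZ, hD, mk_mul inv, mk_mul inv, mk_mul inv]
    congr 1 <;> simp [N.conj]
  · show (S * T).1.1 * (S * T).1.1 = _
    rw [hA, hZ, mk_mul inv]
    congr 1
    · simp only [N.conj]; grobner
    · simp
  · show (S * (S * T) * S⁻¹).1.1 * (S * T).1.1 = Z.1.1 * ((S * T).1.1 * (S * (S * T) * S⁻¹).1.1)
    rw [hA, hB, hZ, mk_mul inv, mk_mul inv, mk_mul inv]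
    congr 1 <;> simp [N.conj]

variable {h : UFrob σ 3} {Z J D S T : Cfsg.SU 2 F 3}

/-- The centre of one block does not commute with the next block. -/
theorem Els.not_commute (E : Els σ i Z J D S T) (N : Nine σ i) {κ : Cfsg.SU 3 F 3 →* G}
    {A B : Subgroup G} (C : IsChart h κ A B) :
    (¬∀ M, Commute (κ (embF h (sh 0 (show 0 + 2 ≤ 3 by omega)) Z))
      (κ (embF h (sh 1 (show 1 + 2 ≤ 3 by omega)) M))) ∧
    ¬∀ M, Commute (κ (embF h (sh 1 (show 1 + 2 ≤ 3 by omega)) Z))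
      (κ (embF h (sh 0 (show 0 + 2 ≤ 3 by omega)) M)) := by
  have key : ∀ X Y : Cfsg.SU 3 F 3, Commute (κ X) (κ Y) →
      ∃ l : F, ∀ x, X.1.1 *ᵥ (Y.1.1 *ᵥ x) = l • (Y.1.1 *ᵥ (X.1.1 *ᵥ x)) := by
    intro X Y e
    obtain ⟨l, hl⟩ := C.ker (X * Y * (Y * X)⁻¹) (by
      rw [map_mul, map_inv, map_mul, map_mul, e.eq, mul_inv_cancel])
    exact ⟨l, fun x => by rw [← su_mul_mulVec, ← su_mul_mulVec, ← hl, ← su_mul_mulVec,
      inv_mul_cancel_right]⟩
  constructor <;> intro hc <;> obtain ⟨l, hl⟩ := key _ _ (hc J)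
  · have e0 := congrFun (hl (Pi.single 0 1)) 0
    have e1 := congrFun (hl (Pi.single 1 1)) 2
    simp only [sh0_apply, sh1_apply, E.Zv, E.Jv] at e0 e1
    simp [Three.mk] at e0 e1
    exact N.two_ne (by linear_combination e1 + e0)
  · have e0 := congrFun (hl (Pi.single 0 1)) 1
    have e1 := congrFun (hl (Pi.single 2 1)) 2
    simp only [sh0_apply, sh1_apply, E.Zv, E.Jv] at e0 e1
    simp [Three.mk] at e0 e1
    exact N.two_ne (by linear_combination e1 - e0)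

/-- Conjugation of the generator by a diagonal element. -/
theorem Els.conj (E : Els σ i Z J D S T) (N : Nine σ i) :
    embF h (sh 0 (show 0 + 2 ≤ 3 by omega)) D * embF h (sh 1 (show 1 + 2 ≤ 3 by omega)) S *
      (embF h (sh 0 (show 0 + 2 ≤ 3 by omega)) D)⁻¹ =
      embF h (sh 1 (show 1 + 2 ≤ 3 by omega)) T := by
  refine mul_inv_eq_iff_eq_mul.2 (su_ext fun y => ?_)
  have i2 := N.sq
  rw [su_mul_mulVec, su_mul_mulVec]
  simp only [sh0_apply, sh1_apply, E.Dv, E.Sv, E.Tv]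
  funext r
  fin_cases r <;> simp [Three.mk, N.conj] <;> grobner

end CfsgLib.Phan.Three
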