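import Cfsg.Agent.Lib.Phan.Three.Chart

/-!
A frame of joint eigenvectors of two commuting involutions, and two by two blocks of elements of
order three.
-/

set_option autoImplicit false

namespace CfsgLib.Phan.Three

open Matrix CfsgLib.Classical CfsgLib.Classical.Unitary CfsgLib.Pres.SU CfsgLib.Pres.SU.Chain

variable {F : Type*} [Field F] {σ : F →+* F} {i : F} {h : UFrob σ 3}

theorem orth_pm (h : UFrob σ 3) (N : Nine σ i) {z : Cfsg.SU 4 F 3} {u w : Fin 4 → F}
    (hu : z.1.1 *ᵥ u = u) (hw : z.1.1 *ᵥ w = -w) : uh σ u w = 0 ∧ uh σ w u = 0 := by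
  have h1 : uh σ u w = 0 := by
    have := su_uh h z u w
    rw [hu, hw, show -w = (-1 : F) • w by rw [neg_one_smul], uh_smul_right, map_neg, map_one] at this
    exact (mul_eq_zero.1 (show (2 : F) * uh σ u w = 0 by linear_combination -this)).resolve_left
      N.two_ne
  exact ⟨h1, h.swap_zero h1⟩

/-- The element carrying the standard basis to joint eigenvectors. -/
theorem exists_frame [Finite F] (hF : Nat.card F = 3 ^ 2) (h : UFrob σ 3) (N : Nine σ i)
    {z y : Cfsg.SU 4 F 3} (hz : z * z = 1) (hy : y * y = 1) (hzy : Commute z y)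
    (hns : ∀ s c : F, s * s = 1 → ¬∀ x, z.1.1 *ᵥ x = s • x → y.1.1 *ᵥ x = c • x) :
    ∃ g : Cfsg.SU 4 F 3, ∀ j,
      z.1.1 *ᵥ (g.1.1 *ᵥ Pi.single j 1) = (![-1, -1, 1, 1] : Fin 4 → F) j • (g.1.1 *ᵥ Pi.single j 1) ∧
      y.1.1 *ᵥ (g.1.1 *ᵥ Pi.single j 1) =
        (![1, -1, -1, 1] : Fin 4 → F) j • (g.1.1 *ᵥ Pi.single j 1) := by
  have zz : ∀ x, z.1.1 *ᵥ (z.1.1 *ᵥ x) = x := fun x => by rw [← su_mul_mulVec, hz, su_one_mulVec]
  have yy : ∀ x, y.1.1 *ᵥ (y.1.1 *ᵥ x) = x := fun x => by rw [← su_mul_mulVec, hy, su_one_mulVec]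
  have joint : ∀ s t : F, s * s = 1 → t * t = 1 →
      ∃ v, v ≠ 0 ∧ z.1.1 *ᵥ v = s • v ∧ y.1.1 *ᵥ v = t • v := by
    intro s t hs ht
    by_contra hh
    push Not at hh
    refine hns s (-t) hs fun x hx => ?_
    have hv : x + t • (y.1.1 *ᵥ x) = 0 := by
      by_contra hne
      refine hh _ hne ?_ ?_
      · rw [mulVec_add, mulVec_smul, comm_mulVec hzy, hx, mulVec_smul, smul_add, smul_comm]
      · rw [mulVec_add, mulVec_smul, yy, smul_add, smul_smul, ht, one_smul, add_comm]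
    have := congrArg (fun v => t • v) hv
    simp only [smul_add, smul_smul, ht, one_smul, smul_zero] at this
    rw [neg_smul]
    exact eq_neg_of_add_eq_zero_right this
  obtain ⟨v0, n0, z0, y0⟩ := joint (-1) 1 (by simp) (by simp)
  obtain ⟨v1, n1, z1, y1⟩ := joint (-1) (-1) (by simp) (by simp)
  obtain ⟨v2, n2, z2, y2⟩ := joint 1 (-1) (by simp) (by simp)
  obtain ⟨v3, n3, z3, y3⟩ := joint 1 1 (by simp) (by simp)
  simp only [neg_one_smul, one_smul] at z0 z1 z2 z3 y0 y1 y2 y3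
  have half : ∀ x : Fin 4 → F, x + x = 0 → x = 0 := fun x e => by
    rw [← two_smul F x] at e
    exact (smul_eq_zero.1 e).resolve_left N.two_ne
  have hli : LinearIndependent F ![v0, v1, v2, v3] := by
    rw [Fintype.linearIndependent_iff]
    intro c hc
    simp only [Fin.sum_univ_four, Matrix.cons_val_zero, Matrix.cons_val_one, Matrix.cons_val_two,
      Matrix.cons_val_three, Matrix.head_cons, Matrix.tail_cons] at hc
    have h1 := congrArg (fun x => z.1.1 *ᵥ x) hc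
    simp only [mulVec_add, mulVec_smul, mulVec_zero, z0, z1, z2, z3] at h1
    have A : c 0 • v0 + c 1 • v1 = 0 := half _ (by linear_combination (norm := module) hc - h1)
    have B : c 2 • v2 + c 3 • v3 = 0 := half _ (by linear_combination (norm := module) hc + h1)
    have h2 := congrArg (fun x => y.1.1 *ᵥ x) A
    have h3 := congrArg (fun x => y.1.1 *ᵥ x) B
    simp only [mulVec_add, mulVec_smul, mulVec_zero, y0, y1, y2, y3] at h2 h3
    have C0 : c 0 • v0 = 0 := half _ (by linear_combination (norm := module) A + h2)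
    have C2 : c 2 • v2 = 0 := half _ (by linear_combination (norm := module) B - h3)
    have C1 : c 1 • v1 = 0 := by rwa [C0, zero_add] at A
    have C3 : c 3 • v3 = 0 := by rwa [C2, zero_add] at B
    intro j
    fin_cases j
    · exact (smul_eq_zero.1 C0).resolve_right n0
    · exact (smul_eq_zero.1 C1).resolve_right n1
    · exact (smul_eq_zero.1 C2).resolve_right n2
    · exact (smul_eq_zero.1 C3).resolve_right n3
  have decomp : ∀ x, ∃ c : Fin 4 → F, x = c 0 • v0 + c 1 • v1 + c 2 • v2 + c 3 • v3 := by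
    intro x
    have hx : x ∈ Submodule.span F (Set.range ![v0, v1, v2, v3]) := by
      rw [hli.span_eq_top_of_card_eq_finrank (by simp)]; trivial
    obtain ⟨c, hc⟩ := (Submodule.mem_span_range_iff_exists_fun F).1 hx
    exact ⟨c, by rw [← hc]; simp [Fin.sum_univ_four]⟩
  obtain ⟨o20, o02⟩ := orth_pm h N z2 z0
  obtain ⟨o21, o12⟩ := orth_pm h N z2 z1
  obtain ⟨o30, o03⟩ := orth_pm h N z3 z0
  obtain ⟨o31, o13⟩ := orth_pm h N z3 z1
  obtain ⟨o01, o10⟩ := orth_pm h N y0 y1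
  obtain ⟨o32, o23⟩ := orth_pm h N y3 y2
  have a0 : uh σ v0 v0 ≠ 0 := fun e => n0 (uh_ext h fun x => by
    obtain ⟨c, rfl⟩ := decomp x
    simp [uh_add_left, uh_smul_left, uh_zero_right, e, o10, o20, o30])
  have a1 : uh σ v1 v1 ≠ 0 := fun e => n1 (uh_ext h fun x => by
    obtain ⟨c, rfl⟩ := decomp x
    simp [uh_add_left, uh_smul_left, uh_zero_right, e, o01, o21, o31])
  have a2 : uh σ v2 v2 ≠ 0 := fun e => n2 (uh_ext h fun x => by
    obtain ⟨c, rfl⟩ := decomp x
    simp [uh_add_left, uh_smul_left, uh_zero_right, e, o02, o12, o32])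
  obtain ⟨c0, hc0, e0⟩ := exists_normalise hF h a0
  obtain ⟨c1, hc1, e1⟩ := exists_normalise hF h a1
  obtain ⟨c2, hc2, e2⟩ := exists_normalise hF h a2
  obtain ⟨g, hg⟩ := exists_su_map hF h
    (o := ![(Pi.single 0 1 : Fin 4 → F), Pi.single 1 1, Pi.single 2 1])
    (o' := ![c0 • v0, c1 • v1, c2 • v2])
    (fun a b => by fin_cases a <;> fin_cases b <;> simp [uh_single_left])
    (fun a b => by
      fin_cases a <;> fin_cases b <;>
        first
          | (simpa using e0) | (simpa using e1) | (simpa using e2)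
          | simp [uh_smul_left, uh_smul_right, o01, o10, o02, o20, o12, o21])
    (by omega)
  have g0 : g.1.1 *ᵥ Pi.single 0 1 = c0 • v0 := hg 0
  have g1 : g.1.1 *ᵥ Pi.single 1 1 = c1 • v1 := hg 1
  have g2 : g.1.1 *ᵥ Pi.single 2 1 = c2 • v2 := hg 2
  obtain ⟨c, hc⟩ := decomp (g.1.1 *ᵥ Pi.single 3 1)
  have p0 := su_uh h g (Pi.single 3 1) (Pi.single 0 1)
  have p1 := su_uh h g (Pi.single 3 1) (Pi.single 1 1)
  have p2 := su_uh h g (Pi.single 3 1) (Pi.single 2 1)
  rw [hc, g0, uh_single_left] at p0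
  rw [hc, g1, uh_single_left] at p1
  rw [hc, g2, uh_single_left] at p2
  simp [uh_add_left, uh_smul_left, uh_smul_right, a0, hc0, o10, o20, o30] at p0
  simp [uh_add_left, uh_smul_left, uh_smul_right, a1, hc1, o01, o21, o31] at p1
  simp [uh_add_left, uh_smul_left, uh_smul_right, a2, hc2, o02, o12, o32] at p2
  have g3 : g.1.1 *ᵥ Pi.single 3 1 = c 3 • v3 := by simpa [p0, p1, p2] using hc
  refine ⟨g, fun j => ?_⟩
  fin_cases j <;> simp [g0, g1, g2, g3, mulVec_smul, z0, z1, z2, z3, y0, y1, y2, y3]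

/-- The block of an element on two orthonormal vectors. -/
def coef (σ : F →+* F) (u w : Fin 4 → F) (g : Cfsg.SU 4 F 3) : Matrix (Fin 2) (Fin 2) F :=
  !![uh σ (g.1.1 *ᵥ u) u, uh σ (g.1.1 *ᵥ w) u; uh σ (g.1.1 *ᵥ u) w, uh σ (g.1.1 *ᵥ w) w]

/-- Elements preserving the plane. -/
def Keeps (σ : F →+* F) (u w : Fin 4 → F) (g : Cfsg.SU 4 F 3) : Prop :=
  g.1.1 *ᵥ u = uh σ (g.1.1 *ᵥ u) u • u + uh σ (g.1.1 *ᵥ u) w • w ∧
    g.1.1 *ᵥ w = uh σ (g.1.1 *ᵥ w) u • u + uh σ (g.1.1 *ᵥ w) w • w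

variable {u w : Fin 4 → F}

theorem coef_mul (huu : uh σ u u = 1) (hww : uh σ w w = 1) (huw : uh σ u w = 0)
    (hwu : uh σ w u = 0) (g : Cfsg.SU 4 F 3) {k : Cfsg.SU 4 F 3} (hk : Keeps σ u w k) :
    coef σ u w (g * k) = coef σ u w g * coef σ u w k := by
  obtain ⟨e1, e2⟩ := hk
  generalize uh σ (k.1.1 *ᵥ u) u = a at e1
  generalize uh σ (k.1.1 *ᵥ u) w = b at e1
  generalize uh σ (k.1.1 *ᵥ w) u = c at e2
  generalize uh σ (k.1.1 *ᵥ w) w = d at e2
  ext r s
  fin_cases r <;> fin_cases s <;>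
    simp [coef, Matrix.mul_apply, Fin.sum_univ_two, ← mulVec_mulVec, e1, e2, mulVec_add, mulVec_smul,
      uh_add_left, uh_smul_left, huu, hww, huw, hwu] <;> ring

theorem coef_one (huu : uh σ u u = 1) (hww : uh σ w w = 1) (huw : uh σ u w = 0)
    (hwu : uh σ w u = 0) : coef σ u w (1 : Cfsg.SU 4 F 3) = 1 := by
  simp [coef, su_one_mulVec, huu, hww, huw, hwu, Matrix.one_fin_two]

/-- An element of order three acts by an element of `SU 2` of trace two. -/
theorem coef_cube (h : UFrob σ 3) (N : Nine σ i) (huu : uh σ u u = 1) (hww : uh σ w w = 1)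
    (huw : uh σ u w = 0) (hwu : uh σ w u = 0) {g : Cfsg.SU 4 F 3} (hg : Keeps σ u w g)
    (h3 : g ^ 3 = 1) :
    ∃ a b : F, a + σ a = 2 ∧ a * σ a + b * σ b = 1 ∧ coef σ u w g = mk σ a b := by
  have hmat : coef σ u w g * coef σ u w g * coef σ u w g = 1 := by
    rw [← coef_mul huu hww huw hwu g hg, ← coef_mul huu hww huw hwu _ hg,
      show g * g * g = g ^ 3 by rw [pow_succ, pow_two], h3, coef_one huu hww huw hwu]
  have q1 := su_uh h g u u
  have q2 := su_uh h g u w
  obtain ⟨e1, e2⟩ := hg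
  obtain ⟨a, ha⟩ : ∃ a, a = uh σ (g.1.1 *ᵥ u) u := ⟨_, rfl⟩
  obtain ⟨b, hb⟩ : ∃ b, b = uh σ (g.1.1 *ᵥ u) w := ⟨_, rfl⟩
  obtain ⟨c, hc⟩ : ∃ c, c = uh σ (g.1.1 *ᵥ w) u := ⟨_, rfl⟩
  obtain ⟨d, hd⟩ : ∃ d, d = uh σ (g.1.1 *ᵥ w) w := ⟨_, rfl⟩
  rw [← ha, ← hb] at e1
  rw [← hc, ← hd] at e2
  rw [e1] at q1
  rw [e1, e2] at q2
  simp [uh_add_left, uh_add_right, uh_smul_left, uh_smul_right, huu, hww, huw, hwu] at q1 q2
  replace q1 : a * σ a + b * σ b = 1 := by linear_combination q1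
  have hcoef : coef σ u w g = !![a, c; b, d] := by rw [coef, ← ha, ← hb, ← hc, ← hd]
  rw [hcoef] at hmat
  have hdet : a * d - c * b = 1 := by
    refine cube_eq_one N ?_
    have := congrArg Matrix.det hmat
    rw [det_mul, det_mul, det_one, det_fin_two] at this
    simp at this
    linear_combination this
  have q2' : σ a * c + σ b * d = 0 := by
    have := congrArg σ q2
    simpa [map_add, map_mul, h.invol, mul_comm] using this
  have hd' : d = σ a := by linear_combination σ a * hdet - d * q1 + b * q2'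
  have hc' : c = -σ b := by linear_combination -σ b * hdet - c * q1 + a * q2'
  refine ⟨a, b, ?_, q1, by rw [hcoef, hc', hd']; rfl⟩
  subst hd'
  subst hc'
  rw [show !![a, -σ b; b, σ a] = mk σ a b from rfl, mk_mul h.invol, mk_mul h.invol,
    show (1 : Matrix (Fin 2) (Fin 2) F) = mk σ 1 0 by simp [mk, Matrix.one_fin_two]] at hmat
  obtain ⟨f0, f1⟩ := mk_inj hmat
  simp only [map_add, map_sub, map_mul, h.invol] at f0 f1
  have fb : b * ((a + σ a) * (a + σ a) - 1) = 0 := by linear_combination f1 + b * q1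
  by_cases hb0 : b = 0
  · have : a ^ 3 = 1 := by rw [hb0] at f0; simp at f0; linear_combination f0
    rw [cube_eq_one N this, map_one]; ring
  have fτ := (mul_eq_zero.1 fb).resolve_left hb0
  have fa : ((a + σ a) * (a + σ a) - 1) * a - (a + σ a) = 1 := by
    linear_combination f0 + (2 * a + σ a) * q1
  rw [fτ, zero_mul] at fa
  linear_combination -fa - N.three

end CfsgLib.Phan.Three
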