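import Cfsg.Agent.Lib.Phan.Three.Blocks
import Cfsg.Agent.Lib.Phan.Proj
import Cfsg.Agent.Lib.Phan.Main

/-!
Weak Phan systems over the field with nine elements.
-/

set_option autoImplicit false

namespace CfsgLib.Phan

open Matrix CfsgLib.Classical CfsgLib.Classical.Unitary CfsgLib.Pres.SU CfsgLib.Pres.SU.Chain

variable {F : Type*} [Field F] [Finite F] {σ : F →+* F} {G : Type*} [Group G] {h : UFrob σ 3}

/-- Four coordinates over the field with nine elements. -/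
theorem Sys.exists_four_three (S : Sys h 4 G) (hF : Nat.card F = 3 ^ 2) {U0 U1 U2 : Subgroup G}
    (C0 : IsChart h (S.κ 0) U0 U1) (C1 : IsChart h (S.κ 1) U1 U2)
    (π : Cfsg.SU 4 F 3 →* G) (hπ : ∀ g, π g = 1 → ∃ l : F, ∀ x, g.1.1 *ᵥ x = l • x)
    (r0 : (S.κ 0).range ≤ π.range) (r1 : (S.κ 1).range ≤ π.range) :
    ∃ f : Cfsg.SU 4 F 3 →* G, ∀ i (hi : i + 3 ≤ 4) M, f (embF h (sh i hi) M) = S.κ i M := by
  obtain ⟨i, N⟩ := Three.exists_nine hF h
  obtain ⟨π', -, hk, b0, b1, b2⟩ := Three.exists_blocks hF h N π hπ C0 C1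
    (fun M => (S.κ_left 1 (by omega) M).trans (S.κ_right 0 (by omega) M).symm)
    (fun x hx y hy => by
      rw [← C0.left] at hx
      rw [← C1.right] at hy
      obtain ⟨a, rfl⟩ := hx
      obtain ⟨b, rfl⟩ := hy
      simp only [MonoidHom.comp_apply]
      rw [S.κ_left 0 (by omega), S.κ_right 1 (by omega)]
      exact (S.comm 0 2 (by omega) (by omega) a b).eq) r0 r1
  refine S.exists_rigid hF C0 C1 π' hk b0 b1 b2 fun f _ _ a ha fa fa1 M => ?_
  have htop := top_of_planes hF h le_rfl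
    ((f.comp (embF h (sh a ha))).eqLocus (S.κ a))
    (fun M => by
      rw [embF_congr h f01_eq]
      show f (embF h (sh a ha) (embF h (sh 0 _) M)) = S.κ a (embF h (sh 0 _) M)
      rw [embF_sh_sh, embF_congr h (sh_congr (Nat.add_zero a) _), fa, S.κ_left a ha])
    (fun M => by
      rw [embF_congr h f12_eq]
      show f (embF h (sh a ha) (embF h (sh 1 _) M)) = S.κ a (embF h (sh 1 _) M)
      rw [embF_sh_sh, fa1, S.κ_right a ha])
  exact (show M ∈ (f.comp (embF h (sh a ha))).eqLocus (S.κ a) from htop ▸ Subgroup.mem_top M)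

/-- A weak Phan system over the field with nine elements. -/
theorem exists_hom_three (hF : Nat.card F = 3 ^ 2) (h : UFrob σ 3) {n : ℕ} (hn : 4 ≤ n)
    (U : Fin n → Subgroup G) (V : Fin n → Fin n → Subgroup G)
    (e : ∀ i, ↥(Cfsg.SU 2 F 3) ≃* ↥(U i))
    (h1 : ∀ i j : Fin n, (i : ℕ) + 2 ≤ j → ∀ x ∈ U i, ∀ y ∈ U j, x * y = y * x)
    (h2 : ∀ i j : Fin n, (i : ℕ) + 1 = j → Cfsg.IsStandardUnitaryPair (V i j) (U i) (U j) F 3)
    (hgen : (⨆ i, U i) ⊔ (⨆ (i : Fin n) (j : Fin n) (_ : (i : ℕ) + 1 = j), V i j) = ⊤)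
    (h4 : ∀ i j k : Fin n, (i : ℕ) + 1 = j → (j : ℕ) + 1 = k →
      ∃ g : ↥(Cfsg.SU 4 F 3) →* ↥(V i j ⊔ V j k), Function.Surjective g) :
    ∃ f : Cfsg.SU (n + 1) F 3 →* G, Function.Surjective f := by
  classical
  obtain ⟨S, hS⟩ := exists_sys hF h (by omega) U V h1 h2
  have loc : ∀ a (ha : a + 4 ≤ n + 1), ∃ f : Cfsg.SU 4 F 3 →* G,
      ∀ i (hi : i + 3 ≤ 4) M, f (embF h (sh i hi) M) = (S.shift a 4 ha).κ i M := by
    intro a ha
    obtain ⟨g, hg⟩ := h4 ⟨a, by omega⟩ ⟨a + 1, by omega⟩ ⟨a + 2, by omega⟩ rfl rfl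
    obtain ⟨hC, hV⟩ := hS a (by omega)
    obtain ⟨hC', hV'⟩ := hS (a + 1) (by omega)
    obtain ⟨J, hJ⟩ := exists_swap h
    have hJ1 : J ≠ 1 := fun e0 => by
      have := congrFun hJ.1 0
      rw [e0, su_one_mulVec] at this
      simp at this
    have hxV : ((e ⟨a, by omega⟩ J : U ⟨a, by omega⟩) : G) ∈
        V ⟨a, by omega⟩ ⟨a + 1, by omega⟩ := by
      rw [← hV]
      have := (e ⟨a, by omega⟩ J).2
      obtain ⟨M, hM⟩ := hC.left.symm.le this
      exact ⟨_, hM⟩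
    obtain ⟨π, hπr, hπ⟩ := exists_proj hF h g hg
      (x := ((e ⟨a, by omega⟩ J : U ⟨a, by omega⟩) : G)) (le_sup_left (α := Subgroup G) hxV)
      (fun e0 => hJ1 ((e _).injective (Subtype.ext (e0.trans (by rw [map_one]; rfl)))))
    refine (S.shift a 4 ha).exists_four_three hF (U0 := U ⟨a, by omega⟩) (U1 := U ⟨a + 1, by omega⟩)
      (U2 := U ⟨a + 1 + 1, by omega⟩) hC hC' π hπ ?_ ?_
    · rw [hπr]
      exact hV.le.trans le_sup_left
    · rw [hπr]
      exact hV'.le.trans le_sup_right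
  choose θ hθ using loc
  have hloc : S.IsLocal (fun a => if ha : a + 4 ≤ n + 1 then θ a ha else 1) := fun a ha i hi M => by
    simp only [dif_pos ha]
    exact hθ a ha i hi M
  obtain ⟨f, hf⟩ := Sys.exists_hom hF (by omega) hloc (S.far_of_planes hF le_rfl)
    fun e0 => absurd e0 (by omega)
  exact ⟨f, surjective_of_charts (by omega) hS hgen hf⟩

end CfsgLib.Phan
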