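import Cfsg.Agent.Lib.Phan.Three.Basic
import Cfsg.Agent.Lib.Phan.Blocks

/-!
Lifts to `SU 4` over the field with nine elements of subgroups isomorphic to `SU 2` of a quotient by
scalars: involutions above their centres, and two commuting subgroups.
-/

set_option autoImplicit false

namespace CfsgLib.Phan.Three

open Matrix CfsgLib.Classical CfsgLib.Classical.Unitary CfsgLib.Pres.SU

variable {F : Type*} [Field F] {σ : F →+* F} {i : F} {G : Type*} [Group G]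
  {π : Cfsg.SU 4 F 3 →* G}

theorem scalar_pow (y : Cfsg.SU 4 F 3) {l : F} (hl : ∀ x, y.1.1 *ᵥ x = l • x) : l ^ 4 = 1 := by
  have e : y.1.1 = l • (1 : Matrix (Fin 4) (Fin 4) F) :=
    Matrix.ext_iff_mulVec.2 fun x => by rw [hl, smul_mulVec, one_mulVec]
  have := y.1.2
  rwa [e, det_smul, det_one, mul_one, Fintype.card_fin] at this

theorem scalar_ne_zero {l : F} (hl : l ^ 4 = 1) : l ≠ 0 := fun e => by simp [e] at hl

theorem scal_of_eq (hπ : ∀ y, π y = 1 → ∃ l : F, ∀ x, y.1.1 *ᵥ x = l • x) {a b : Cfsg.SU 4 F 3}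
    (e : π a = π b) : ∃ l : F, l ^ 4 = 1 ∧ ∀ x, a.1.1 *ᵥ x = l • (b.1.1 *ᵥ x) := by
  obtain ⟨l, hl⟩ := hπ (a * b⁻¹) (by rw [map_mul, map_inv, e, mul_inv_cancel])
  exact ⟨l, scalar_pow _ hl, fun x => by rw [← hl, ← su_mul_mulVec, inv_mul_cancel_right]⟩

theorem scal_of_comm (hπ : ∀ y, π y = 1 → ∃ l : F, ∀ x, y.1.1 *ᵥ x = l • x) {a b : Cfsg.SU 4 F 3}
    (e : Commute (π a) (π b)) :
    ∃ l : F, l ^ 4 = 1 ∧ ∀ x, a.1.1 *ᵥ (b.1.1 *ᵥ x) = l • (b.1.1 *ᵥ (a.1.1 *ᵥ x)) := by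
  obtain ⟨l, hl4, hl⟩ := scal_of_eq hπ (a := a * b) (b := b * a) (by rw [map_mul, map_mul, e.eq])
  exact ⟨l, hl4, fun x => by rw [← su_mul_mulVec, hl, su_mul_mulVec]⟩

/-- Elements above commuting ones commute when one has order three. -/
theorem commute_cube (N : Nine σ i) (hπ : ∀ y, π y = 1 → ∃ l : F, ∀ x, y.1.1 *ᵥ x = l • x)
    {a s : Cfsg.SU 4 F 3} (hs : s ^ 3 = 1) (e : Commute (π a) (π s)) : Commute a s := by
  obtain ⟨l, hl4, hl⟩ := scal_of_comm hπ e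
  have hs' : ∀ x, s.1.1 *ᵥ (s.1.1 *ᵥ (s.1.1 *ᵥ x)) = x := fun x => by
    rw [← su_mul_mulVec, ← su_mul_mulVec, show s * s * s = s ^ 3 by rw [pow_succ, pow_two], hs, su_one_mulVec]
  have h3 : l ^ 3 = 1 := by
    have e3 : ∀ x, a.1.1 *ᵥ x = l ^ 3 • (a.1.1 *ᵥ x) := fun x => by
      conv_lhs => rw [← hs' x]
      rw [hl, hl, hl, mulVec_smul, mulVec_smul, smul_smul, mulVec_smul, smul_smul, hs',
        show l * l * l = l ^ 3 by ring]
    by_contra hne
    have h0 : a.1.1 *ᵥ Pi.single 0 1 = 0 := by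
      have := sub_eq_zero.2 (e3 (Pi.single 0 1)).symm
      rw [show l ^ 3 • (a.1.1 *ᵥ Pi.single 0 1) - a.1.1 *ᵥ Pi.single 0 1 =
        (l ^ 3 - 1) • (a.1.1 *ᵥ Pi.single 0 1) by rw [sub_smul, one_smul]] at this
      exact (smul_eq_zero.1 this).resolve_left (sub_ne_zero.2 hne)
    have := congrArg (fun v => (a⁻¹).1.1 *ᵥ v) h0
    simp only [su_inv_mulVec, mulVec_zero] at this
    simpa using congrFun this 0
  have hl1 := cube_eq_one N h3
  subst hl1
  exact su_ext fun x => by rw [su_mul_mulVec, su_mul_mulVec, hl, one_smul]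

/-- Elements of order three lift to elements of order three. -/
theorem exists_lift_cube (hπ : ∀ y, π y = 1 → ∃ l : F, ∀ x, y.1.1 *ᵥ x = l • x) {x : G}
    (hx : x ∈ π.range) (h3 : x ^ 3 = 1) : ∃ s, π s = x ∧ s ^ 3 = 1 := by
  obtain ⟨s, rfl⟩ := hx
  obtain ⟨l, hl⟩ := hπ (s ^ 3) (by rw [map_pow, h3])
  have h4 := scalar_pow _ hl
  refine ⟨s ^ 4, by rw [map_pow, pow_succ, h3, one_mul], su_ext fun v => ?_⟩
  rw [show (s ^ 4) ^ 3 = s ^ 3 * s ^ 3 * s ^ 3 * s ^ 3 by group, su_mul_mulVec, su_mul_mulVec,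
    su_mul_mulVec, hl, hl, hl, hl, smul_smul, smul_smul, smul_smul, su_one_mulVec,
    show l * l * l * l = l ^ 4 by ring, h4, one_smul]

theorem commute_of_scal {a b c : Cfsg.SU 4 F 3} {l : F}
    (hl : ∀ x, b.1.1 *ᵥ x = l • (c.1.1 *ᵥ x)) (e : Commute a c) : Commute a b :=
  su_ext fun x => by
    rw [su_mul_mulVec, su_mul_mulVec, hl, hl, mulVec_smul, ← su_mul_mulVec, e.eq, su_mul_mulVec]

/-- The two generators. -/
theorem exists_gens (h : UFrob σ 3) (N : Nine σ i) : ∃ S T : Cfsg.SU 2 F 3,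
    S.1.1 = mk σ (1 + i) (1 + i) ∧ T.1.1 = mk σ (1 + i) (i * (1 + i)) ∧ S ^ 3 = 1 ∧ T ^ 3 = 1 := by
  have i2 := N.sq
  have t3 := N.three
  have inv := h.invol
  have one : (1 : Matrix (Fin 2) (Fin 2) F) = mk σ 1 0 := by simp [mk, Matrix.one_fin_two]
  obtain ⟨S, hS⟩ := exists_mk h (a := 1 + i) (b := 1 + i) (by
    rw [map_add, map_one, N.conj]; grobner)
  obtain ⟨T, hT⟩ := exists_mk h (a := 1 + i) (b := i * (1 + i)) (by
    rw [map_mul, map_add, map_one, N.conj]; grobner)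
  refine ⟨S, T, hS, hT, ?_, ?_⟩
  · rw [pow_succ, pow_two]
    refine Subtype.ext (Subtype.ext ?_)
    show S.1.1 * S.1.1 * S.1.1 = _
    rw [hS, mk_mul inv, mk_mul inv]
    show mk σ _ _ = (1 : Matrix (Fin 2) (Fin 2) F)
    rw [one]
    congr 1 <;>
      (simp only [map_sub, map_add, map_mul, map_one, map_neg, inv, N.conj]; grobner)
  · rw [pow_succ, pow_two]
    refine Subtype.ext (Subtype.ext ?_)
    show T.1.1 * T.1.1 * T.1.1 = _
    rw [hT, mk_mul inv, mk_mul inv]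
    show mk σ _ _ = (1 : Matrix (Fin 2) (Fin 2) F)
    rw [one]
    congr 1 <;>
      (simp only [map_sub, map_add, map_mul, map_one, map_neg, inv, N.conj]; grobner)

variable [Finite F]

/-- Elements above the centraliser of a subgroup commute with everything above it. -/
theorem commute_above (hF : Nat.card F = 3 ^ 2) (h : UFrob σ 3) (N : Nine σ i)
    (hπ : ∀ y, π y = 1 → ∃ l : F, ∀ x, y.1.1 *ᵥ x = l • x) (ν : Cfsg.SU 2 F 3 →* G)
    (hν : ν.range ≤ π.range) {a : Cfsg.SU 4 F 3} (ha : ∀ M, Commute (π a) (ν M))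
    {b : Cfsg.SU 4 F 3} (hb : π b ∈ ν.range) : Commute a b := by
  obtain ⟨S, T, hS, hT, hS3, hT3⟩ := exists_gens h N
  have mem : ∀ x : Cfsg.SU 2 F 3, x ^ 3 = 1 →
      x ∈ ((Subgroup.centralizer {a}).map π).comap ν := by
    intro x hx
    obtain ⟨s, hs, hs3⟩ := exists_lift_cube hπ (hν ⟨x, rfl⟩) (by rw [← map_pow, hx, map_one])
    exact ⟨s, Subgroup.mem_centralizer_singleton_iff.2
      (commute_cube N hπ hs3 (hs ▸ ha x)).eq.symm, hs⟩
  have htop := top_of_two hF h N hS hT _ (mem S hS3) (mem T hT3)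
  obtain ⟨M, hM⟩ := hb
  obtain ⟨c, hc, hcM⟩ : M ∈ ((Subgroup.centralizer {a}).map π).comap ν := htop ▸ Subgroup.mem_top M
  obtain ⟨l, -, hl⟩ := scal_of_eq hπ (hM.symm.trans hcM.symm)
  exact commute_of_scal hl (Subgroup.mem_centralizer_singleton_iff.1 hc : c * a = a * c).symm

/-- An involution above the centre, with two anticommuting elements. -/
structure Quat (π : Cfsg.SU 4 F 3 →* G) (ν : Cfsg.SU 2 F 3 →* G) (Z : Cfsg.SU 2 F 3)
    (z a b : Cfsg.SU 4 F 3) : Prop where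
  sq : z * z = 1
  above : π z = ν Z
  comm : ∀ g, π g ∈ ν.range → Commute z g
  amem : π a ∈ ν.range
  bmem : π b ∈ ν.range
  rel : b * a * b⁻¹ * a⁻¹ = z
  asq : ∃ l : F, l ^ 4 = 1 ∧ ∀ x, a.1.1 *ᵥ (a.1.1 *ᵥ x) = l • (z.1.1 *ᵥ x)

theorem exists_quat (hF : Nat.card F = 3 ^ 2) (h : UFrob σ 3) (N : Nine σ i)
    (hπ : ∀ y, π y = 1 → ∃ l : F, ∀ x, y.1.1 *ᵥ x = l • x) (ν : Cfsg.SU 2 F 3 →* G)
    (hν : ν.range ≤ π.range) {A B Z : Cfsg.SU 2 F 3} (hA : A * A = Z)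
    (hB : B * A * B⁻¹ * A⁻¹ = Z) (hZ : ∀ M, Commute Z M) {a b : Cfsg.SU 4 F 3} (ha : π a = ν A)
    (hb : π b = ν B) : Quat π ν Z (b * a * b⁻¹ * a⁻¹) a b := by
  obtain ⟨z, hz⟩ : ∃ z, z = b * a * b⁻¹ * a⁻¹ := ⟨_, rfl⟩
  rw [← hz]
  have hzZ : π z = ν Z := by
    rw [hz, ← hB]; simp only [map_mul, map_inv, ha, hb]
  have hcomm : ∀ g, π g ∈ ν.range → Commute z g := fun g hg =>
    commute_above hF h N hπ ν hν (fun M => hzZ ▸ (hZ M).map ν) hg
  obtain ⟨l, hl4, hl⟩ := scal_of_eq hπ (a := a * a) (b := z) (by rw [map_mul, ha, ← map_mul, hA, hzZ])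
  have hzb : Commute z b := hcomm b ⟨B, hb.symm⟩
  have hza : Commute z a := hcomm a ⟨A, ha.symm⟩
  refine ⟨?_, hzZ, hcomm, ⟨A, ha.symm⟩, ⟨B, hb.symm⟩, hz.symm, l, hl4,
    fun x => by rw [← su_mul_mulVec, hl]⟩
  have e1 : b * (a * a) * b⁻¹ = a * a := by
    rw [mul_inv_eq_iff_eq_mul]
    exact (commute_of_scal hl hzb.symm).eq
  have e2 : b * (a * a) * b⁻¹ = z * z * (a * a) := by
    have e : b * a * b⁻¹ = z * a := by rw [hz]; group
    rw [show b * (a * a) * b⁻¹ = b * a * b⁻¹ * (b * a * b⁻¹) by group, e, mul_assoc z a,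
      ← mul_assoc a z a, ← hza.eq]
    group
  exact mul_right_cancel (b := a * a) ((e2.symm.trans e1).trans (one_mul _).symm)

omit [Finite F] in
/-- Anticommuting. -/
theorem Quat.anti {ν : Cfsg.SU 2 F 3 →* G} {Z : Cfsg.SU 2 F 3} {z a b : Cfsg.SU 4 F 3}
    (Q : Quat π ν Z z a b) {x : Fin 4 → F} (hx : z.1.1 *ᵥ x = -x) :
    a.1.1 *ᵥ (b.1.1 *ᵥ x) = -(b.1.1 *ᵥ (a.1.1 *ᵥ x)) := by
  have e : a * b = z * (b * a) := by
    have hzz : z⁻¹ = z := inv_eq_of_mul_eq_one_right Q.sq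
    calc a * b = (b * a * b⁻¹ * a⁻¹)⁻¹ * (b * a) := by group
      _ = z * (b * a) := by rw [Q.rel, hzz]
  rw [← su_mul_mulVec, e, ((Q.comm b Q.bmem).mul_right (Q.comm a Q.amem)).eq, su_mul_mulVec,
    su_mul_mulVec, hx, mulVec_neg, mulVec_neg]

omit [Finite F] in
theorem comm_mulVec {g k : Cfsg.SU 4 F 3} (e : Commute g k) (x : Fin 4 → F) :
    g.1.1 *ᵥ (k.1.1 *ᵥ x) = k.1.1 *ᵥ (g.1.1 *ᵥ x) := by
  rw [← su_mul_mulVec, e.eq, su_mul_mulVec]

/-- An eigenvector keeping other eigenvalues. -/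
theorem exists_eigen (hF : Nat.card F = 3 ^ 2) (N : Nine σ i) {a : Cfsg.SU 4 F 3} {v : Fin 4 → F}
    (hv : v ≠ 0) {μ : F} (hμ4 : μ ^ 4 = 1) (hμ : a.1.1 *ᵥ (a.1.1 *ᵥ v) = μ • v) :
    ∃ (w : Fin 4 → F) (l : F), w ≠ 0 ∧ l ≠ 0 ∧ a.1.1 *ᵥ w = l • w ∧
      ∀ (g : Cfsg.SU 4 F 3) (c : F), Commute g a → g.1.1 *ᵥ v = c • v → g.1.1 *ᵥ w = c • w := by
  obtain ⟨l, hl⟩ := pow_four hF hμ4 N
  have hl0 : l ≠ 0 := fun e => by rw [e, zero_mul] at hl; exact scalar_ne_zero hμ4 hl.symm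
  by_cases h0 : a.1.1 *ᵥ v + l • v = 0
  · exact ⟨v, -l, hv, neg_ne_zero.2 hl0, by rw [neg_smul]; exact eq_neg_of_add_eq_zero_left h0,
      fun g c _ hg => hg⟩
  refine ⟨_, l, h0, hl0, ?_, fun g c hga hg => ?_⟩
  · rw [mulVec_add, mulVec_smul, hμ, smul_add, smul_smul, hl, add_comm]
  · rw [mulVec_add, mulVec_smul, comm_mulVec hga, hg, mulVec_smul, smul_comm l c, smul_add]

/-- The facts about two commuting subgroups. -/
theorem pair (hF : Nat.card F = 3 ^ 2) (h : UFrob σ 3) (N : Nine σ i)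
    (hπ : ∀ y, π y = 1 → ∃ l : F, ∀ x, y.1.1 *ᵥ x = l • x) {ν ν' : Cfsg.SU 2 F 3 →* G}
    (hν' : ν'.range ≤ π.range) (hcomm : ∀ x y, Commute (ν x) (ν' y))
    {Z Z' : Cfsg.SU 2 F 3} {z a b z' a' b' : Cfsg.SU 4 F 3} (Q : Quat π ν Z z a b)
    (Q' : Quat π ν' Z' z' a' b') (hz : ¬∃ l : F, ∀ x, z.1.1 *ᵥ x = l • x)
    (hz' : ¬∃ l : F, ∀ x, z'.1.1 *ᵥ x = l • x) :
    (∀ x, z'.1.1 *ᵥ x = -(z.1.1 *ᵥ x)) ∧
      ∀ g, π g ∈ ν.range → ∃ l : F, ∀ x, z.1.1 *ᵥ x = x → g.1.1 *ᵥ x = l • x := by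
  have cross : ∀ g g', π g ∈ ν.range → π g' ∈ ν'.range → Commute g g' := by
    intro g g' hg hg'
    obtain ⟨M, hM⟩ := hg
    exact commute_above hF h N hπ ν' hν' (fun y => hM ▸ hcomm M y) hg'
  have hzm : π z ∈ ν.range := ⟨Z, Q.above.symm⟩
  have hz'm : π z' ∈ ν'.range := ⟨Z', Q'.above.symm⟩
  have zz : ∀ x, z.1.1 *ᵥ (z.1.1 *ᵥ x) = x := fun x => by rw [← su_mul_mulVec, Q.sq, su_one_mulVec]
  have z'z' : ∀ x, z'.1.1 *ᵥ (z'.1.1 *ᵥ x) = x := fun x => by
    rw [← su_mul_mulVec, Q'.sq, su_one_mulVec]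
  have half : ∀ x : Fin 4 → F, x + x = 0 → x = 0 := fun x e => by
    rw [← two_smul F x] at e
    exact (smul_eq_zero.1 e).resolve_left N.two_ne
  -- no common vector of eigenvalue `-1`
  have noJ : ∀ v, z.1.1 *ᵥ v = -v → z'.1.1 *ᵥ v = -v → v = 0 := by
    intro v e e'
    by_contra hv
    obtain ⟨κ, hκ4, hκ⟩ := Q.asq
    obtain ⟨κ', hκ'4, hκ'⟩ := Q'.asq
    obtain ⟨w1, l, hw1, hl, hal, keep⟩ := exists_eigen hF N (a := a) hv (μ := -κ) (by
      rw [neg_pow, hκ4]; norm_num) (by rw [hκ, e, smul_neg, neg_smul])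
    have e1 : z.1.1 *ᵥ w1 = -w1 := by
      rw [keep z (-1) (Q.comm a Q.amem) (by rw [e, neg_one_smul]), neg_one_smul]
    have e1' : z'.1.1 *ᵥ w1 = -w1 := by
      rw [keep z' (-1) (cross a z' Q.amem hz'm).symm (by rw [e', neg_one_smul]), neg_one_smul]
    obtain ⟨w, m, hw, hm, ham, keep'⟩ := exists_eigen hF N (a := a') hw1 (μ := -κ') (by
      rw [neg_pow, hκ'4]; norm_num) (by rw [hκ', e1', smul_neg, neg_smul])
    have ea : a.1.1 *ᵥ w = l • w := keep' a l (cross a a' Q.amem Q'.amem) hal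
    have ew : z.1.1 *ᵥ w = -w := by
      rw [keep' z (-1) (cross z a' hzm Q'.amem) (by rw [e1, neg_one_smul]), neg_one_smul]
    have ew' : z'.1.1 *ᵥ w = -w := by
      rw [keep' z' (-1) (Q'.comm a' Q'.amem) (by rw [e1', neg_one_smul]), neg_one_smul]
    -- the four vectors
    obtain ⟨u, hu⟩ : ∃ u, u = b'.1.1 *ᵥ w := ⟨_, rfl⟩
    have eu : z.1.1 *ᵥ u = -u := by
      rw [hu, comm_mulVec (cross z b' hzm Q'.bmem), ew, mulVec_neg]
    have au : a.1.1 *ᵥ u = l • u := by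
      rw [hu, comm_mulVec (cross a b' Q.amem Q'.bmem), ea, mulVec_smul]
    have a'u : a'.1.1 *ᵥ u = -(m • u) := by rw [hu, Q'.anti ew', ham, mulVec_smul]
    have abw : a.1.1 *ᵥ (b.1.1 *ᵥ w) = -(l • (b.1.1 *ᵥ w)) := by rw [Q.anti ew, ea, mulVec_smul]
    have abu : a.1.1 *ᵥ (b.1.1 *ᵥ u) = -(l • (b.1.1 *ᵥ u)) := by rw [Q.anti eu, au, mulVec_smul]
    have a'bw : a'.1.1 *ᵥ (b.1.1 *ᵥ w) = m • (b.1.1 *ᵥ w) := by
      rw [comm_mulVec (cross b a' Q.bmem Q'.amem).symm, ham, mulVec_smul]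
    have a'bu : a'.1.1 *ᵥ (b.1.1 *ᵥ u) = -(m • (b.1.1 *ᵥ u)) := by
      rw [comm_mulVec (cross b a' Q.bmem Q'.amem).symm, a'u, mulVec_neg, mulVec_smul]
    have hu0 : u ≠ 0 := fun e0 => hw (by rw [← su_inv_mulVec b' w, ← hu, e0, mulVec_zero])
    have hbw : b.1.1 *ᵥ w ≠ 0 := fun e0 => hw (by rw [← su_inv_mulVec b w, e0, mulVec_zero])
    have hbu : b.1.1 *ᵥ u ≠ 0 := fun e0 => hu0 (by rw [← su_inv_mulVec b u, e0, mulVec_zero])
    have hli : LinearIndependent F ![w, b.1.1 *ᵥ w, u, b.1.1 *ᵥ u] := by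
      rw [Fintype.linearIndependent_iff]
      intro c hc
      simp only [Fin.sum_univ_four, Matrix.cons_val_zero, Matrix.cons_val_one, Matrix.cons_val_two,
        Matrix.cons_val_three, Matrix.head_cons, Matrix.tail_cons] at hc
      have h1 := congrArg (fun x => a.1.1 *ᵥ x) hc
      simp only [mulVec_add, mulVec_smul, mulVec_zero, ea, au, abw, abu] at h1
      have A : c 0 • w + c 2 • u = 0 := by
        refine half _ (smul_right_injective _ hl ?_)
        simp only [smul_zero]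
        linear_combination (norm := module) l • hc + h1
      have B : c 1 • (b.1.1 *ᵥ w) + c 3 • (b.1.1 *ᵥ u) = 0 := by
        rw [← hc]; linear_combination (norm := module) -A
      have h2 := congrArg (fun x => a'.1.1 *ᵥ x) A
      have h3 := congrArg (fun x => a'.1.1 *ᵥ x) B
      simp only [mulVec_add, mulVec_smul, mulVec_zero, ham, a'u, a'bw, a'bu] at h2 h3
      have C0 : c 0 • w = 0 := by
        refine half _ (smul_right_injective _ hm ?_)
        simp only [smul_zero]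
        linear_combination (norm := module) m • A + h2
      have C1 : c 1 • (b.1.1 *ᵥ w) = 0 := by
        refine half _ (smul_right_injective _ hm ?_)
        simp only [smul_zero]
        linear_combination (norm := module) m • B + h3
      have C2 : c 2 • u = 0 := by rwa [C0, zero_add] at A
      have C3 : c 3 • (b.1.1 *ᵥ u) = 0 := by rwa [C1, zero_add] at B
      intro j
      fin_cases j
      · exact (smul_eq_zero.1 C0).resolve_right hw
      · exact (smul_eq_zero.1 C1).resolve_right hbw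
      · exact (smul_eq_zero.1 C2).resolve_right hu0
      · exact (smul_eq_zero.1 C3).resolve_right hbu
    refine hz ⟨-1, fun x => ?_⟩
    have hx : x ∈ Submodule.span F (Set.range ![w, b.1.1 *ᵥ w, u, b.1.1 *ᵥ u]) := by
      rw [hli.span_eq_top_of_card_eq_finrank (by simp)]; trivial
    induction hx using Submodule.span_induction with
    | mem y hy =>
      obtain ⟨j, rfl⟩ := hy
      have ebw : z.1.1 *ᵥ (b.1.1 *ᵥ w) = -(b.1.1 *ᵥ w) := by
        rw [comm_mulVec (Q.comm b Q.bmem), ew, mulVec_neg]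
      have ebu : z.1.1 *ᵥ (b.1.1 *ᵥ u) = -(b.1.1 *ᵥ u) := by
        rw [comm_mulVec (Q.comm b Q.bmem), eu, mulVec_neg]
      fin_cases j <;> simp [ew, eu, ebw, ebu]
    | zero => simp
    | add y y' _ _ hy hy' => rw [mulVec_add, hy, hy', smul_add]
    | smul t y _ hy => rw [mulVec_smul, hy, smul_comm]
  -- eigenvalue `-1` of one gives eigenvalue `1` of the other
  have hzz' : Commute z z' := cross z z' hzm hz'm
  have flip : ∀ v, z.1.1 *ᵥ v = -v → z'.1.1 *ᵥ v = v := fun v e =>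
    (sub_eq_zero.1 (noJ (v - z'.1.1 *ᵥ v)
      (by rw [mulVec_sub, e, comm_mulVec hzz', e, mulVec_neg]; abel)
      (by rw [mulVec_sub, z'z']; abel))).symm
  have flip' : ∀ v, z'.1.1 *ᵥ v = -v → z.1.1 *ᵥ v = v := fun v e =>
    (sub_eq_zero.1 (noJ (v - z.1.1 *ᵥ v) (by rw [mulVec_sub, zz]; abel)
      (by rw [mulVec_sub, e, comm_mulVec hzz'.symm, e, mulVec_neg]; abel))).symm
  obtain ⟨v0, hv0, ev0⟩ : ∃ v, v ≠ 0 ∧ z.1.1 *ᵥ v = -v := by
    by_contra hh
    push Not at hh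
    refine hz ⟨1, fun x => ?_⟩
    by_contra hx
    exact hh (x - z.1.1 *ᵥ x) (fun e => hx (by rw [one_smul]; exact (sub_eq_zero.1 e).symm))
      (by rw [mulVec_sub, zz]; abel)
  obtain ⟨v2, hv2, ev2⟩ : ∃ v, v ≠ 0 ∧ z'.1.1 *ᵥ v = -v := by
    by_contra hh
    push Not at hh
    refine hz' ⟨1, fun x => ?_⟩
    by_contra hx
    exact hh (x - z'.1.1 *ᵥ x) (fun e => hx (by rw [one_smul]; exact (sub_eq_zero.1 e).symm))
      (by rw [mulVec_sub, z'z']; abel)
  obtain ⟨κ, hκ4, hκ⟩ := Q.asq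
  obtain ⟨κ', hκ'4, hκ'⟩ := Q'.asq
  obtain ⟨w, l, hw, hl, haw, keep⟩ := exists_eigen hF N (a := a) hv0 (μ := -κ) (by
    rw [neg_pow, hκ4]; norm_num) (by rw [hκ, ev0, smul_neg, neg_smul])
  obtain ⟨u, m, hu, hm, hau, keep'⟩ := exists_eigen hF N (a := a') hv2 (μ := -κ') (by
    rw [neg_pow, hκ'4]; norm_num) (by rw [hκ', ev2, smul_neg, neg_smul])
  have ew : z.1.1 *ᵥ w = -w := by
    rw [keep z (-1) (Q.comm a Q.amem) (by rw [ev0, neg_one_smul]), neg_one_smul]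
  have eu' : z'.1.1 *ᵥ u = -u := by
    rw [keep' z' (-1) (Q'.comm a' Q'.amem) (by rw [ev2, neg_one_smul]), neg_one_smul]
  have eu : z.1.1 *ᵥ u = u := flip' u eu'
  have ew' : z'.1.1 *ᵥ w = w := flip w ew
  obtain ⟨w', hw'⟩ : ∃ w', w' = b.1.1 *ᵥ w := ⟨_, rfl⟩
  obtain ⟨u', hu'⟩ : ∃ u', u' = b'.1.1 *ᵥ u := ⟨_, rfl⟩
  have ew1 : z.1.1 *ᵥ w' = -w' := by rw [hw', comm_mulVec (Q.comm b Q.bmem), ew, mulVec_neg]
  have eu1' : z'.1.1 *ᵥ u' = -u' := by rw [hu', comm_mulVec (Q'.comm b' Q'.bmem), eu', mulVec_neg]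
  have ew1' : z'.1.1 *ᵥ w' = w' := flip w' ew1
  have eu1 : z.1.1 *ᵥ u' = u' := flip' u' eu1'
  have haw1 : a.1.1 *ᵥ w' = -(l • w') := by rw [hw', Q.anti ew, haw, mulVec_smul]
  have hau1 : a'.1.1 *ᵥ u' = -(m • u') := by rw [hu', Q'.anti eu', hau, mulVec_smul]
  have hw1 : w' ≠ 0 := fun e0 => hw (by rw [← su_inv_mulVec b w, ← hw', e0, mulVec_zero])
  have hu1 : u' ≠ 0 := fun e0 => hu (by rw [← su_inv_mulVec b' u, ← hu', e0, mulVec_zero])
  have hli : LinearIndependent F ![w, w', u, u'] := by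
    rw [Fintype.linearIndependent_iff]
    intro c hc
    simp only [Fin.sum_univ_four, Matrix.cons_val_zero, Matrix.cons_val_one, Matrix.cons_val_two,
      Matrix.cons_val_three, Matrix.head_cons, Matrix.tail_cons] at hc
    have h1 := congrArg (fun x => z.1.1 *ᵥ x) hc
    simp only [mulVec_add, mulVec_smul, mulVec_zero, ew, ew1, eu, eu1] at h1
    have A : c 0 • w + c 1 • w' = 0 := half _ (by linear_combination (norm := module) hc - h1)
    have B : c 2 • u + c 3 • u' = 0 := half _ (by linear_combination (norm := module) hc + h1)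
    have h2 := congrArg (fun x => a.1.1 *ᵥ x) A
    have h3 := congrArg (fun x => a'.1.1 *ᵥ x) B
    simp only [mulVec_add, mulVec_smul, mulVec_zero, haw, haw1, hau, hau1] at h2 h3
    have C0 : c 0 • w = 0 := by
      refine half _ (smul_right_injective _ hl ?_)
      simp only [smul_zero]
      linear_combination (norm := module) l • A + h2
    have C2 : c 2 • u = 0 := by
      refine half _ (smul_right_injective _ hm ?_)
      simp only [smul_zero]
      linear_combination (norm := module) m • B + h3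
    have C1 : c 1 • w' = 0 := by rwa [C0, zero_add] at A
    have C3 : c 3 • u' = 0 := by rwa [C2, zero_add] at B
    intro j
    fin_cases j
    · exact (smul_eq_zero.1 C0).resolve_right hw
    · exact (smul_eq_zero.1 C1).resolve_right hw1
    · exact (smul_eq_zero.1 C2).resolve_right hu
    · exact (smul_eq_zero.1 C3).resolve_right hu1
  have decomp : ∀ x, ∃ c : Fin 4 → F, x = c 0 • w + c 1 • w' + c 2 • u + c 3 • u' := by
    intro x
    have hx : x ∈ Submodule.span F (Set.range ![w, w', u, u']) := by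
      rw [hli.span_eq_top_of_card_eq_finrank (by simp)]; trivial
    obtain ⟨c, hc⟩ := (Submodule.mem_span_range_iff_exists_fun F).1 hx
    exact ⟨c, by rw [← hc]; simp [Fin.sum_univ_four]⟩
  refine ⟨fun x => ?_, fun g hg => ?_⟩
  · obtain ⟨c, rfl⟩ := decomp x
    simp only [mulVec_add, mulVec_smul, ew, ew1, eu, eu1, ew', ew1', eu', eu1']
    module
  · -- the action on the second plane is scalar
    have hplane : ∀ x, z.1.1 *ᵥ x = x → ∃ s t : F, x = s • u + t • u' := by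
      intro x hx
      obtain ⟨c, rfl⟩ := decomp x
      simp only [mulVec_add, mulVec_smul, ew, ew1, eu, eu1] at hx
      have : c 0 • w + c 1 • w' = 0 := half _ (by linear_combination (norm := module) -hx)
      exact ⟨c 2, c 3, by rw [this, zero_add]⟩
    have hgz : Commute g z := (Q.comm g hg).symm
    obtain ⟨s, t, hst⟩ := hplane (g.1.1 *ᵥ u) (by rw [comm_mulVec hgz.symm, eu])
    have hga := congrArg (fun x => a'.1.1 *ᵥ x) hst
    simp only [mulVec_add, mulVec_smul, hau, hau1] at hga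
    rw [comm_mulVec (cross g a' hg Q'.amem).symm, hau, mulVec_smul, hst] at hga
    have ht : t • u' = 0 := by
      refine half _ (smul_right_injective _ hm ?_)
      simp only [smul_zero]
      linear_combination (norm := module) hga
    rw [ht, add_zero] at hst
    refine ⟨s, fun x hx => ?_⟩
    obtain ⟨p, q, rfl⟩ := hplane x hx
    have hu'g : g.1.1 *ᵥ u' = s • u' := by
      rw [hu', comm_mulVec (cross g b' hg Q'.bmem), hst, mulVec_smul]
    rw [mulVec_add, mulVec_smul, mulVec_smul, hst, hu'g]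
    module

end CfsgLib.Phan.Three
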